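import Mathlib.GroupTheory.GroupAction.Defs
import Mathlib.GroupTheory.Coset.Basic
import Mathlib.GroupTheory.GroupAction.Basic
import Mathlib.Logic.Relation
import Mathlib.Tactic.Group

/-!
# Injectivity from a simply connected graph with edges lifted by a subgroup

`Γ` maps to `G`, which acts on a graph `X`; `H` maps isomorphically onto the stabiliser of the point `a`, and
the neighbours of `a` are moved to by a subgroup `R`. When edges and the chosen triangles lift and the closed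
paths of length four split into chosen triangles, the map is bijective.
-/

set_option autoImplicit false

namespace CfsgLib.Phan.Cover

open MulAction (stabilizer)

variable {G X : Type*} [Group G] [MulAction G X]

/-- two common neighbours `u`, `v` of `a` and `x` cutting a square in two chosen triangles -/
def Step (M : X → X → Prop) (T : X → X → X → Prop) (a x u v : X) : Prop :=
  (M a u ∧ M u x) ∧ (M a v ∧ M v x) ∧ M u v ∧ ((T a u v ∧ T u v x) ∨ (T a v u ∧ T v u x))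

/-- the conditions on the graph -/
structure Graph (G : Type*) {X : Type*} [Group G] [MulAction G X] (M : X → X → Prop) (T : X → X → X → Prop)
    (a : X) : Prop where
  symm : ∀ x y, M x y → M y x
  inv : ∀ (g : G) x y, M x y → M (g • x) (g • y)
  invT : ∀ (g : G) x y z, T x y z → T (g • x) (g • y) (g • z)
  mid : ∀ x y, M x y → ∃ v, M a v ∧ M v x ∧ M v y ∧ T v x y
  mid_two : ∀ x, ∃ v, M a v ∧ M v x
  conn : ∀ x w w', M a w → M w x → M a w' → M w' x → Relation.EqvGen (Step M T a x) w w'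

variable {Γ : Type*} [Group Γ]

/-- the conditions on the covering group -/
structure Lift (π : Γ →* G) (H R : Subgroup Γ) (M : X → X → Prop) (T : X → X → X → Prop) (a : X) : Prop where
  inj : Set.InjOn π H
  onto : H.map π = stabilizer G a
  nbr : ∀ x, M a x → ∃ h ∈ H, ∃ r ∈ R, π (h * r) • a = x
  loc : ∀ h ∈ H, ∀ r ∈ R, ∀ r' ∈ R, M a (π r • a) → π (h * r) • a = π r' • a → r'⁻¹ * h * r ∈ H
  tri : ∀ h ∈ H, ∀ r ∈ R, ∀ r' ∈ R, M a (π r • a) → M a (π r' • a) → M (π r • a) (π (h * r') • a) →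
    T a (π r • a) (π (h * r') • a) → ∃ h' ∈ H, ∃ r'' ∈ R, ∃ h'' ∈ H, r⁻¹ * h * r' = h' * r'' * h''
  gen : Subgroup.closure ((H : Set Γ) ∪ {r | r ∈ R ∧ M a (π r • a)}) = ⊤

variable {π : Γ →* G} {H R : Subgroup Γ} {M : X → X → Prop} {T : X → X → X → Prop} {a : X}

theorem mk_eq_of_mem {g g' : Γ} (h : g⁻¹ * g' ∈ H) : (g : Γ ⧸ H) = (g' : Γ ⧸ H) := QuotientGroup.eq.2 h

namespace Lift

variable (L : Lift π H R M T a)

/-- adjacency of cosets -/
def E (_L : Lift π H R M T a) (c d : Γ ⧸ H) : Prop :=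
  ∃ γ : Γ, ∃ h ∈ H, ∃ r ∈ R, M a (π r • a) ∧ c = (γ : Γ ⧸ H) ∧ d = ((γ * h * r : Γ) : Γ ⧸ H)

include L

theorem fix {h : Γ} (hh : h ∈ H) : π h • a = a :=
  MulAction.mem_stabilizer_iff.1 (L.onto ▸ Subgroup.mem_map_of_mem π hh)

/-- the image of a coset -/
def pt (c : Γ ⧸ H) : X :=
  Quotient.liftOn' c (fun γ => π γ • a) fun γ δ hγ => by
    have := L.fix (QuotientGroup.leftRel_apply.1 hγ)
    rw [map_mul, map_inv, mul_smul, inv_smul_eq_iff] at this
    exact this.symm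

theorem pt_mk (γ : Γ) : L.pt (γ : Γ ⧸ H) = π γ • a := rfl

theorem pt_one : L.pt ((1 : Γ) : Γ ⧸ H) = a := by rw [L.pt_mk, map_one, one_smul]

variable (S : Graph G M T a)
include S

theorem pt_edge {c d : Γ ⧸ H} (h : L.E c d) : M (L.pt c) (L.pt d) := by
  obtain ⟨γ, h0, hh, r, -, hm, rfl, rfl⟩ := h
  rw [L.pt_mk, L.pt_mk, map_mul, map_mul, mul_smul, mul_smul]
  have := S.inv (π γ) _ _ (S.inv (π h0) _ _ hm)
  rwa [L.fix hh] at this

theorem E_symm {c d : Γ ⧸ H} (h : L.E c d) : L.E d c := by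
  obtain ⟨γ, h0, hh, r, hr, hm, rfl, rfl⟩ := h
  refine ⟨γ * h0 * r, 1, H.one_mem, r⁻¹, inv_mem hr, ?_, rfl, mk_eq_of_mem ?_⟩
  · have := S.inv (π r)⁻¹ _ _ hm
    rw [inv_smul_smul] at this
    rw [map_inv]
    exact S.symm _ _ this
  · rw [show γ⁻¹ * (γ * h0 * r * 1 * r⁻¹) = h0 by group]
    exact hh

theorem E_unique {c d d' : Γ ⧸ H} (h : L.E c d) (h' : L.E c d') (hp : L.pt d = L.pt d') : d = d' := by
  obtain ⟨γ, h0, hh, r, hr, hm, rfl, rfl⟩ := h
  obtain ⟨δ, h1, hh1, r', hr', hm', hc, rfl⟩ := h'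
  have hk : h0⁻¹ * (γ⁻¹ * δ) * h1 ∈ H := mul_mem (mul_mem (inv_mem hh) (QuotientGroup.eq.1 hc)) hh1
  have hfix : π (h0⁻¹ * (γ⁻¹ * δ) * h1 * r') • a = π r • a := by
    rw [L.pt_mk, L.pt_mk] at hp
    simp only [map_mul, map_inv, mul_smul] at hp ⊢
    rw [← hp, inv_smul_smul, inv_smul_smul]
  refine mk_eq_of_mem ?_
  rw [show (γ * h0 * r)⁻¹ * (δ * h1 * r') = r⁻¹ * (h0⁻¹ * (γ⁻¹ * δ) * h1) * r' by group]
  exact L.loc _ hk r' hr' r hr hm' hfix

theorem E_exists (c : Γ ⧸ H) {y : X} (h : M (L.pt c) y) : ∃ d, L.E c d ∧ L.pt d = y := by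
  induction c using QuotientGroup.induction_on with
  | H γ =>
    have h1 : M a ((π γ)⁻¹ • y) := by
      have := S.inv (π γ)⁻¹ _ _ h
      rwa [L.pt_mk, inv_smul_smul] at this
    obtain ⟨h0, hh, r, hr, e⟩ := L.nbr _ h1
    have hm : M a (π r • a) := by
      rw [← e, map_mul, mul_smul] at h1
      have := S.inv (π h0)⁻¹ _ _ h1
      rw [inv_smul_smul] at this
      have hx : (π h0)⁻¹ • a = a := inv_smul_eq_iff.2 (L.fix hh).symm
      rwa [hx] at this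
    refine ⟨_, ⟨γ, h0, hh, r, hr, hm, rfl, rfl⟩, ?_⟩
    rw [L.pt_mk, mul_assoc, map_mul, mul_smul, e, smul_inv_smul]

theorem triangle {c d e : Γ ⧸ H} (h1 : L.E c d) (h2 : L.E c e) (h : M (L.pt d) (L.pt e))
    (ht : T (L.pt c) (L.pt d) (L.pt e)) : L.E d e := by
  obtain ⟨γ, h0, hh, r, hr, hm, rfl, rfl⟩ := h1
  obtain ⟨δ, h1, hh1, r', hr', hm', hc, rfl⟩ := h2
  have hk : h0⁻¹ * (γ⁻¹ * δ) * h1 ∈ H := mul_mem (mul_mem (inv_mem hh) (QuotientGroup.eq.1 hc)) hh1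
  have e0 : π (γ * h0) • a = π γ • a := by rw [map_mul, mul_smul, L.fix hh]
  have hadj : M (π r • a) (π (h0⁻¹ * (γ⁻¹ * δ) * h1 * r') • a) := by
    have := S.inv (π (γ * h0))⁻¹ _ _ h
    simpa only [L.pt_mk, map_mul, map_inv, mul_inv_rev, mul_smul, inv_smul_smul] using this
  have htr : T a (π r • a) (π (h0⁻¹ * (γ⁻¹ * δ) * h1 * r') • a) := by
    have := S.invT (π (γ * h0))⁻¹ _ _ _ ht
    rw [L.pt_mk γ, ← e0, inv_smul_smul] at this
    simpa only [L.pt_mk, map_mul, map_inv, mul_inv_rev, mul_smul, inv_smul_smul] using this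
  obtain ⟨h', hh', r'', hr'', h'', hh'', e⟩ := L.tri _ hk r hr r' hr' hm hm' hadj htr
  have hm'' : M a (π r'' • a) := by
    have h3 := S.inv (π r)⁻¹ _ _ hadj
    rw [inv_smul_smul, ← map_inv, ← mul_smul, ← map_mul,
      show r⁻¹ * (h0⁻¹ * (γ⁻¹ * δ) * h1 * r') = r⁻¹ * (h0⁻¹ * (γ⁻¹ * δ) * h1) * r' by group, e,
      map_mul, map_mul, mul_smul, mul_smul, L.fix hh''] at h3
    have h4 := S.inv (π h')⁻¹ _ _ h3
    rwa [inv_smul_eq_iff.2 (L.fix hh').symm, inv_smul_smul] at h4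
  refine ⟨γ * h0 * r, h', hh', r'', hr'', hm'', rfl, mk_eq_of_mem ?_⟩
  rw [show (δ * h1 * r')⁻¹ * (γ * h0 * r * h' * r'') =
    (r⁻¹ * (h0⁻¹ * (γ⁻¹ * δ) * h1) * r')⁻¹ * (h' * r'') by group, e]
  rw [show (h' * r'' * h'')⁻¹ * (h' * r'') = h''⁻¹ by group]
  exact inv_mem hh''

/-- `w` carries the point `x` to the coset `c` -/
def Via (w x : X) (c : Γ ⧸ H) : Prop :=
  ∃ d : Γ ⧸ H, L.E ((1 : Γ) : Γ ⧸ H) d ∧ L.pt d = w ∧ L.E d c ∧ L.pt c = x

theorem via_exists {w x : X} (h1 : M a w) (h2 : M w x) : ∃ c, L.Via w x c := by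
  obtain ⟨d, hd, e⟩ := L.E_exists S ((1 : Γ) : Γ ⧸ H) (y := w) (by rwa [L.pt_one])
  obtain ⟨c, hc, e'⟩ := L.E_exists S d (y := x) (by rwa [e])
  exact ⟨c, d, hd, e, hc, e'⟩

theorem via_self {w x : X} {c c' : Γ ⧸ H} (hc : L.Via w x c) (hc' : L.Via w x c') : c = c' := by
  obtain ⟨d, hd, e1, hdc, e2⟩ := hc
  obtain ⟨d', hd', e1', hdc', e2'⟩ := hc'
  obtain rfl := L.E_unique S hd hd' (e1.trans e1'.symm)
  exact L.E_unique S hdc hdc' (e2.trans e2'.symm)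

theorem via_step {u v x : X} {c c' : Γ ⧸ H} (hc : L.Via u x c) (hc' : L.Via v x c') (h : M u v)
    (t1 : T a u v) (t2 : T u v x) : c = c' := by
  obtain ⟨d, hd, hdu, hdc, hcx⟩ := hc
  obtain ⟨d', hd', hdv, hdc', hcx'⟩ := hc'
  have hdd : L.E d d' := L.triangle S hd hd' (by rwa [hdu, hdv]) (by rwa [L.pt_one, hdu, hdv])
  have h2 : L.E d' c := L.triangle S hdd hdc (by
    have := L.pt_edge S hdc'
    rw [hdv, hcx]
    rwa [hdv, hcx'] at this) (by rwa [hdu, hdv, hcx])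
  exact L.E_unique S h2 hdc' (hcx.trans hcx'.symm)

theorem via_unique {w w' x : X} {c c' : Γ ⧸ H} (hc : L.Via w x c) (hc' : L.Via w' x c') : c = c' := by
  have hm : ∀ {w : X} {c : Γ ⧸ H}, L.Via w x c → M a w ∧ M w x := by
    rintro w c ⟨d, hd, rfl, hdc, hcx⟩
    exact ⟨by simpa [L.pt_one] using L.pt_edge S hd, hcx ▸ L.pt_edge S hdc⟩
  have key : ∀ u v, Relation.EqvGen (Step M T a x) u v →
      ((M a u ∧ M u x) ↔ (M a v ∧ M v x)) ∧
      ∀ c c', L.Via u x c → L.Via v x c' → c = c' := by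
    intro u v h
    induction h with
    | rel u v h =>
      obtain ⟨hu, hv, hm, ht⟩ := h
      refine ⟨⟨fun _ => hv, fun _ => hu⟩, fun c c' hc hc' => ?_⟩
      rcases ht with ⟨t1, t2⟩ | ⟨t1, t2⟩
      · exact L.via_step S hc hc' hm t1 t2
      · exact (L.via_step S hc' hc (S.symm _ _ hm) t1 t2).symm
    | refl u => exact ⟨Iff.rfl, fun c c' hc hc' => L.via_self S hc hc'⟩
    | symm u v _ ih => exact ⟨ih.1.symm, fun c c' hc hc' => (ih.2 c' c hc' hc).symm⟩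
    | trans u v z _ _ ih ih' =>
      refine ⟨ih.1.trans ih'.1, fun c c' hc hc' => ?_⟩
      obtain ⟨hv1, hv2⟩ := ih.1.1 (hm hc)
      obtain ⟨c₀, hc₀⟩ := L.via_exists S hv1 hv2
      exact (ih.2 c c₀ hc hc₀).trans (ih'.2 c₀ c' hc₀ hc')
  exact (key w w' (S.conn x w w' (hm hc).1 (hm hc).2 (hm hc').1 (hm hc').2)).2 c c' hc hc'

/-- the map is bijective -/
theorem bijective : Function.Bijective π := by
  let P : Set (Γ ⧸ H) := {c | ∃ w x, L.Via w x c}
  have hclosed : ∀ {c d : Γ ⧸ H}, c ∈ P → L.E c d → d ∈ P := by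
    rintro c d ⟨w, x, hc⟩ hcd
    have hx : L.pt c = x := by obtain ⟨-, -, -, -, e⟩ := hc; exact e
    have hxy : M x (L.pt d) := hx ▸ L.pt_edge S hcd
    obtain ⟨v, hav, hvx, hvy, ht⟩ := S.mid _ _ hxy
    obtain ⟨c₁, hc₁⟩ := L.via_exists S hav hvx
    obtain rfl := L.via_unique S hc hc₁
    obtain ⟨e, he, hev, hec, -⟩ := hc₁
    obtain ⟨d', hd', hd'y⟩ := L.E_exists S e (y := L.pt d) (hev ▸ hvy)
    have : L.E c d' := L.triangle S hec hd' (by rw [hx, hd'y]; exact hxy) (by rw [hev, hx, hd'y]; exact ht)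
    obtain rfl := L.E_unique S hcd this hd'y.symm
    exact ⟨v, L.pt d, e, he, hev, hd', rfl⟩
  have hone : ((1 : Γ) : Γ ⧸ H) ∈ P := by
    obtain ⟨v, hv, -⟩ := S.mid_two a
    obtain ⟨d, hd, e⟩ := L.E_exists S ((1 : Γ) : Γ ⧸ H) (y := v) (by rwa [L.pt_one])
    exact ⟨_, _, d, hd, e, L.E_symm S hd, rfl⟩
  have key : ∀ x : Γ, ∀ γ : Γ, (γ : Γ ⧸ H) ∈ P →
      ((γ * x : Γ) : Γ ⧸ H) ∈ P ∧ ((γ * x⁻¹ : Γ) : Γ ⧸ H) ∈ P := by
    intro x
    have hx : x ∈ Subgroup.closure ((H : Set Γ) ∪ {r | r ∈ R ∧ M a (π r • a)}) := L.gen ▸ Subgroup.mem_top x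
    induction hx using Subgroup.closure_induction with
    | one => intro γ h; simpa using h
    | mem y hy =>
      rcases hy with hy | hy
      · intro γ h
        exact ⟨(QuotientGroup.mk_mul_of_mem γ hy).symm ▸ h, (QuotientGroup.mk_mul_of_mem γ (inv_mem hy)).symm ▸ h⟩
      · have hr : ∀ r ∈ R, M a (π r • a) → ∀ γ : Γ, (γ : Γ ⧸ H) ∈ P → ((γ * r : Γ) : Γ ⧸ H) ∈ P :=
          fun r hr hm γ h => hclosed h ⟨γ, 1, H.one_mem, r, hr, hm, rfl, by rw [mul_one]⟩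
        have hm' : M a (π y⁻¹ • a) := by
          have := S.inv (π y)⁻¹ _ _ hy.2
          rw [inv_smul_smul] at this
          rw [map_inv]
          exact S.symm _ _ this
        exact fun γ h => ⟨hr y hy.1 hy.2 γ h, hr _ (inv_mem hy.1) hm' γ h⟩
    | inv y _ hy => exact fun γ h => ⟨(hy γ h).2, (inv_inv y).symm ▸ (hy γ h).1⟩
    | mul y z _ _ hy hz =>
      intro γ h
      refine ⟨mul_assoc γ y z ▸ (hz _ (hy γ h).1).1, ?_⟩
      rw [_root_.mul_inv_rev, ← mul_assoc]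
      exact (hy _ (hz γ h).2).2
  have hall : ∀ γ : Γ, (γ : Γ ⧸ H) ∈ P := fun γ => by simpa using (key γ 1 hone).1
  refine ⟨(injective_iff_map_eq_one _).2 fun γ hγ => ?_, fun g => ?_⟩
  · obtain ⟨w, x, hc⟩ := hall γ
    obtain ⟨w', x', hc'⟩ := hall 1
    have e : x = x' := by
      obtain ⟨-, -, -, -, e⟩ := hc
      obtain ⟨-, -, -, -, e'⟩ := hc'
      rw [← e, ← e', L.pt_mk, L.pt_mk, hγ, map_one]
    subst e
    have hH : γ ∈ H := by
      simpa using inv_mem (QuotientGroup.eq.1 (L.via_unique S hc hc'))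
    exact L.inj hH H.one_mem (hγ.trans (map_one π).symm)
  · obtain ⟨w, haw, hwa⟩ := S.mid_two (g • a)
    obtain ⟨c, d, -, -, -, e⟩ := L.via_exists S haw hwa
    induction c using QuotientGroup.induction_on with
    | H γ =>
      have : (π γ)⁻¹ * g ∈ stabilizer G a := by
        rw [MulAction.mem_stabilizer_iff, mul_smul, inv_smul_eq_iff]
        exact e.symm
      rw [← L.onto] at this
      obtain ⟨h, -, hh⟩ := this
      exact ⟨γ * h, by rw [map_mul, hh, mul_inv_cancel_left]⟩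

end Lift

end CfsgLib.Phan.Cover
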