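import Cfsg.Agent.Lib.Lie.BoundedPres.SU.Sphere
import Cfsg.Agent.Lib.Phan.Cover

/-!
# The graph of the non-degenerate pairs of vectors of norm one

In dimension at least four, over a fixed field with at least four elements, two paths of length two with the
same ends differ by non-degenerate triangles.
-/

set_option autoImplicit false
set_option linter.all false

namespace CfsgLib.Phan.SphereGraph

open Matrix CfsgLib.SU CfsgLib.Lie.BoundedPres.SUBase CfsgLib.Lie.BoundedPres.SUGraph Relation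

universe u

variable {F : Type u} [Field F] [Fintype F] {q n : ℕ} {C : UCtx F q}

/-- the norm -/
def nm (C : UCtx F q) (x : F) : F := x * C.bar x

theorem nm_zero : nm C 0 = 0 := by simp [nm]
theorem nm_bar (x : F) : nm C (C.bar x) = nm C x := by rw [nm, nm, C.bar_bar, mul_comm]
theorem nm_mul (x y : F) : nm C (x * y) = nm C x * nm C y := by simp [nm]; ring
theorem nm_fixed (x : F) : C.bar (nm C x) = nm C x := C.norm_fixed x
theorem nm_form (x y : Fin n → F) : nm C (C.form x y) = nm C (C.form y x) := by rw [← C.bar_form y x, nm_bar]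
theorem nm_eq_zero {x : F} (h : nm C x = 0) : x = 0 := by
  rcases mul_eq_zero.1 h with h | h
  exacts [h, (map_eq_zero C.bar).1 h]

theorem nonDeg_iff (x y : USph C n) : NonDeg x y ↔ nm C (C.form x.1 y.1) ≠ 1 := by
  rw [nm_form]; rfl

theorem nonDeg_symm {x y : USph C n} (h : NonDeg x y) : NonDeg y x := by
  rw [nonDeg_iff] at *; rwa [nm_form]

theorem nonDeg_smul (g : ↥(Cfsg.SU n F q)) {x y : USph C n} (h : NonDeg x y) : NonDeg (g • x) (g • y) := by
  rw [nonDeg_iff] at *; rwa [smul_usph, smul_usph, C.form_su]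

theorem nonDeg_of_orth {x y : USph C n} (h : C.form x.1 y.1 = 0) : NonDeg x y := by
  rw [nonDeg_iff, h, nm_zero]; exact zero_ne_one

/-- the span of three vectors of norm one is non-degenerate of dimension three -/
def Tri (a u v : USph C n) : Prop :=
  1 - nm C (C.form a.1 u.1) - nm C (C.form a.1 v.1) - nm C (C.form u.1 v.1) +
    (C.form a.1 u.1 * C.form u.1 v.1 * C.form v.1 a.1 +
      C.form u.1 a.1 * C.form v.1 u.1 * C.form a.1 v.1) ≠ 0

theorem tri_smul (g : ↥(Cfsg.SU n F q)) {a u v : USph C n} (h : Tri a u v) : Tri (g • a) (g • u) (g • v) := by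
  unfold Tri at *; simpa only [smul_usph, C.form_su] using h

theorem tri_perp_left {a u v : USph C n} (h1 : C.form a.1 u.1 = 0) (h2 : C.form a.1 v.1 = 0) :
    Tri a u v ↔ NonDeg u v := by
  rw [nonDeg_iff, Tri, h1, h2, C.form_swap_zero h1, nm_zero]
  simp only [zero_mul, mul_zero, add_zero, sub_zero, sub_ne_zero]
  exact ne_comm

theorem tri_perp_mid {a u v : USph C n} (h : C.form a.1 u.1 = 0) :
    Tri a u v ↔ 1 - nm C (C.form a.1 v.1) - nm C (C.form u.1 v.1) ≠ 0 := by
  rw [Tri, h, C.form_swap_zero h, nm_zero]; simp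

theorem tri_perp_right {a u v : USph C n} (h : C.form a.1 v.1 = 0) :
    Tri a u v ↔ 1 - nm C (C.form a.1 u.1) - nm C (C.form u.1 v.1) ≠ 0 := by
  rw [Tri, h, C.form_swap_zero h, nm_zero]; simp

theorem tri_perp_opp {a u v : USph C n} (h : C.form u.1 v.1 = 0) :
    Tri a u v ↔ 1 - nm C (C.form a.1 u.1) - nm C (C.form a.1 v.1) ≠ 0 := by
  rw [Tri, h, C.form_swap_zero h, nm_zero]; simp

/-- three forbidden values leave a fixed element -/
def Room (C : UCtx F q) : Prop := ∀ s s' : F, ∃ t, C.bar t = t ∧ t ≠ 0 ∧ t ≠ s ∧ t ≠ s'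

theorem room (hF : Fintype.card F = q ^ 2) (hq : 4 ≤ q) : Room C := fun s s' => by
  classical
  let K := CfsgLib.Descent.fixedField C.bar
  letI : Fintype K := Fintype.ofFinite _
  have hK : Fintype.card K = q := by rw [← Nat.card_eq_fintype_card]; exact card_fixed (C := C) hF
  by_contra hcon
  push Not at hcon
  have hsub : (Finset.univ.image fun t : K => (t : F)) ⊆ {0, s, s'} := by
    intro t ht
    obtain ⟨⟨t, ht'⟩, -, rfl⟩ := Finset.mem_image.1 ht
    simp only [Finset.mem_insert, Finset.mem_singleton]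
    by_cases h1 : t = 0
    · exact Or.inl h1
    by_cases h2 : t = s
    · exact Or.inr (Or.inl h2)
    exact Or.inr (Or.inr (hcon t ht' h1 h2))
  have := Finset.card_le_card hsub
  rw [Finset.card_image_of_injective _ Subtype.val_injective, Finset.card_univ, hK] at this
  have := this.trans Finset.card_le_three
  omega

/-- a unit vector in a plane with a prescribed norm of the product avoided -/
theorem avoid (hr : Room C) {e e' : Fin n → F} (he : C.form e e = 1) (he' : C.form e' e' = 1)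
    (hee : C.form e e' = 0) (o : Fin n → F) {s s' : F} (hs : s ≠ 0) (hs' : s' ≠ 0) :
    ∃ u : USph C n, (∀ w, C.form e w = 0 → C.form e' w = 0 → C.form u.1 w = 0) ∧
      nm C (C.form u.1 o) ≠ s ∧ nm C (C.form u.1 o) ≠ s' := by
  suffices h : ∃ α β : F, nm C α + nm C β = 1 ∧ nm C (α * C.form e o + β * C.form e' o) ≠ s ∧
      nm C (α * C.form e o + β * C.form e' o) ≠ s' by
    obtain ⟨α, β, h1, h2, h3⟩ := h
    have hu : C.form (α • e + β • e') (α • e + β • e') = 1 := by
      simp only [C.form_add_left, C.form_add_right, C.form_smul_left, C.form_smul_right, he, he', hee,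
        C.form_swap_zero hee]
      rw [nm, nm] at h1
      linear_combination h1
    refine ⟨⟨_, hu⟩, fun w h h' => ?_, ?_, ?_⟩
    · simp [C.form_add_left, C.form_smul_left, h, h']
    all_goals simp only [C.form_add_left, C.form_smul_left]; assumption
  set P := C.form e o
  set Q := C.form e' o
  by_cases hD : nm C P + nm C Q = 0
  · by_cases hP : P = 0
    · rw [hP, nm_zero, zero_add] at hD
      refine ⟨1, 0, by simp [nm], ?_⟩
      rw [hP]
      simpa [nm] using And.intro (Ne.symm hs) (Ne.symm hs')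
    obtain ⟨t, ht, ht0, hts, hts'⟩ := hr s s'
    have hNP : nm C P ≠ 0 := fun h => hP (nm_eq_zero h)
    obtain ⟨v, hv⟩ := C.exists_norm (c := t / nm C P) (by rw [map_div₀, ht, nm_fixed])
    have hv0 : v ≠ 0 := fun h => div_ne_zero ht0 hNP (by rw [← hv, h, zero_mul])
    obtain ⟨ρ, hρ⟩ : ∃ ρ, Q = ρ * P := ⟨Q / P, (div_mul_cancel₀ Q hP).symm⟩
    have hρ1 : ρ * C.bar ρ = -1 := by
      have h0 : (1 + ρ * C.bar ρ) * nm C P = 0 := by
        rw [← hD, hρ, nm_mul, nm, nm]; ring
      linear_combination (mul_eq_zero.1 h0).resolve_right hNP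
    have hρ0 : ρ ≠ 0 := fun h => one_ne_zero (neg_eq_zero.1 (by rw [← hρ1, h, zero_mul]) : (1 : F) = 0)
    obtain ⟨x, hx⟩ := C.exists_trace (c := t / nm C P - 1) (by rw [map_sub, map_div₀, ht, nm_fixed, map_one])
    have hm : v * C.bar ρ ≠ 0 := mul_ne_zero hv0 ((map_ne_zero C.bar).2 hρ0)
    obtain ⟨β, hβ⟩ : ∃ β, v * C.bar ρ * C.bar β = x := ⟨C.bar (x / (v * C.bar ρ)), by
      rw [C.bar_bar, mul_div_cancel₀ _ hm]⟩
    have hβ' : C.bar v * ρ * β = C.bar x := by rw [← hβ]; simp [C.bar_bar]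
    have e1 : nm C ((v - β * ρ) * P + β * Q) = t := by
      rw [hρ, show (v - β * ρ) * P + β * (ρ * P) = v * P by ring, nm_mul, nm, hv, div_mul_cancel₀ _ hNP]
    refine ⟨v - β * ρ, β, ?_, by rw [e1]; exact hts, by rw [e1]; exact hts'⟩
    simp only [nm, map_sub, map_mul]
    linear_combination hv + (β * C.bar β) * hρ1 - hx - hβ - hβ'
  · obtain ⟨c, hc⟩ := C.exists_norm (c := (nm C P + nm C Q)⁻¹) (by rw [map_inv₀, map_add, nm_fixed, nm_fixed])
    refine ⟨c * Q, -(c * P), ?_, ?_⟩
    · calc nm C (c * Q) + nm C (-(c * P)) = (c * C.bar c) * (nm C P + nm C Q) := by simp [nm]; ring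
        _ = 1 := by rw [hc, inv_mul_cancel₀ hD]
    · rw [show c * Q * P + -(c * P) * Q = 0 by ring, nm_zero]
      exact ⟨hs.symm, hs'.symm⟩

/-- an orthonormal pair perpendicular to an orthonormal family -/
theorem two_perp {k : ℕ} (o : Fin k → Fin n → F) (ho : ∀ i j, C.form (o i) (o j) = if i = j then 1 else 0)
    (h : k + 1 < n) : ∃ e e', C.form e e = 1 ∧ C.form e' e' = 1 ∧ C.form e e' = 0 ∧
      (∀ i, C.form e (o i) = 0) ∧ ∀ i, C.form e' (o i) = 0 := by
  obtain ⟨e, he, heo, -⟩ := exists_unit_perp (C := C) o ho (Fin.elim0 : Fin 0 → Fin n → F) (by omega)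
  obtain ⟨e', he', heo', -⟩ := exists_unit_perp (C := C) (Fin.cons e o) (fun i j => by
    refine Fin.cases ?_ (fun i => ?_) i <;> refine Fin.cases ?_ (fun j => ?_) j <;>
      simp [he, heo, ho, fun i => C.form_swap_zero (heo i), (Fin.succ_ne_zero _).symm])
    (Fin.elim0 : Fin 0 → Fin n → F) (by omega)
  exact ⟨e, e', he, he', C.form_swap_zero (by simpa using heo' 0), heo, fun i => by simpa using heo' i.succ⟩

/-- common neighbours linked by two triangles -/
abbrev Link (a x : USph C n) := EqvGen (Cover.Step (NonDeg (C := C) (n := n)) Tri a x)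

theorem link_step {a x u v : USph C n} (hu : NonDeg a u ∧ NonDeg u x) (hv : NonDeg a v ∧ NonDeg v x)
    (h : NonDeg u v) (t1 : Tri a u v) (t2 : Tri u v x) : Link a x u v :=
  EqvGen.rel _ _ ⟨hu, hv, h, Or.inl ⟨t1, t2⟩⟩

/-- orthogonal to both ends -/
def Both (a x u : USph C n) : Prop := C.form a.1 u.1 = 0 ∧ C.form u.1 x.1 = 0

theorem Both.nbr {a x u : USph C n} (h : Both a x u) : NonDeg a u ∧ NonDeg u x :=
  ⟨nonDeg_of_orth h.1, nonDeg_of_orth h.2⟩

theorem Both.step {a x u v : USph C n} (hu : Both a x u) (hv : Both a x v) (h : NonDeg u v) : Link a x u v := by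
  refine link_step hu.nbr hv.nbr h ((tri_perp_left hu.1 hv.1).2 h) ?_
  rw [tri_perp_right hu.2, hv.2, nm_zero, sub_zero, sub_ne_zero]
  exact ((nonDeg_iff u v).1 h).symm

/-- to a common neighbour orthogonal to the first end -/
theorem to_perp (hr : Room C) (hn : 4 ≤ n) {a x w : USph C n} (haw : NonDeg a w) (hwx : NonDeg w x) :
    ∃ v : USph C n, C.form a.1 v.1 = 0 ∧ NonDeg v x ∧ Link a x w v := by
  obtain ⟨z, hzz, hza, ⟨c, d, hcd⟩, -⟩ := exists_plane haw
  obtain ⟨e, e', he, he', hee, heo, heo'⟩ := two_perp ![a.1, z] (on_two a.2 hzz (C.form_swap_zero hza)) (by omega)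
  have hB := (nonDeg_iff w x).1 hwx
  obtain ⟨v, hv, h1, h2⟩ := avoid hr he he' hee x.1 (one_ne_zero (α := F))
    (show (1 : F) - nm C (C.form w.1 x.1) ≠ 0 from sub_ne_zero.2 hB.symm)
  have hva : C.form v.1 a.1 = 0 := hv _ (heo 0) (heo' 0)
  have hvz : C.form v.1 z = 0 := hv _ (heo 1) (heo' 1)
  have hwv : C.form w.1 v.1 = 0 := by
    rw [hcd, C.form_add_left, C.form_smul_left, C.form_smul_left, C.form_swap_zero hva, C.form_swap_zero hvz]
    simp
  have hav := C.form_swap_zero hva
  have hvx : NonDeg v x := (nonDeg_iff v x).2 h1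
  refine ⟨v, hav, hvx, link_step ⟨haw, hwx⟩ ⟨nonDeg_of_orth hav, hvx⟩ (nonDeg_of_orth hwv) ?_ ?_⟩
  · rw [tri_perp_right hav, hwv, nm_zero, sub_zero, sub_ne_zero]
    exact ((nonDeg_iff a w).1 haw).symm
  · rw [tri_perp_mid hwv]
    intro h
    exact h2 (by linear_combination -h)

/-- from there to a vector orthogonal to both ends -/
theorem to_both_step {a x v u : USph C n} (hav : C.form a.1 v.1 = 0) (hvx : NonDeg v x) (hu : Both a x u)
    (h1 : nm C (C.form u.1 v.1) ≠ 1) (h2 : nm C (C.form u.1 v.1) ≠ 1 - nm C (C.form v.1 x.1)) :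
    Link a x v u := by
  have hvu : NonDeg v u := nonDeg_symm ((nonDeg_iff u v).2 h1)
  refine link_step ⟨nonDeg_of_orth hav, hvx⟩ hu.nbr hvu ((tri_perp_left hav hu.1).2 hvu) ?_
  rw [tri_perp_opp hu.2, nm_form v.1 u.1]
  intro h
  exact h2 (by linear_combination -h)

/-- the second end is in the plane of an orthonormal system containing the first, or the plane is degenerate -/
theorem shape (a x : USph C n) :
    (∃ (k : ℕ) (o : Fin k → Fin n → F), k ≤ 2 ∧ (∀ i j, C.form (o i) (o j) = if i = j then 1 else 0) ∧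
      ∀ v : Fin n → F, (C.form v a.1 = 0 ∧ C.form v x.1 = 0) ↔ ∀ i, C.form v (o i) = 0) ∨
    ∃ z : Fin n → F, z ≠ 0 ∧ C.form z z = 0 ∧ C.form z a.1 = 0 ∧
      ∀ v : Fin n → F, C.form v a.1 = 0 → C.form v x.1 = C.form v z := by
  by_cases h : NonDeg a x
  · obtain ⟨z, hzz, hza, ⟨c, d, hcd⟩, hperp⟩ := exists_plane h
    refine Or.inl ⟨2, ![a.1, z], le_rfl, on_two a.2 hzz (C.form_swap_zero hza), fun v => ⟨fun hv i => ?_, fun hv => ?_⟩⟩
    · fin_cases i
      exacts [hv.1, hperp v hv.1 hv.2]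
    · refine ⟨hv 0, ?_⟩
      rw [hcd, C.form_add_right, C.form_smul_right, C.form_smul_right, show C.form v a.1 = 0 from hv 0,
        show C.form v z = 0 from hv 1]
      simp
  set z := x.1 - C.form x.1 a.1 • a.1 with hz
  have hxz : ∀ v : Fin n → F, C.form v a.1 = 0 → C.form v x.1 = C.form v z := fun v hv => by
    rw [hz, C.form_sub_right, C.form_smul_right, hv, mul_zero, sub_zero]
  by_cases hz0 : z = 0
  · refine Or.inl ⟨1, ![a.1], by norm_num, fun i j => by fin_cases i; fin_cases j; simpa using a.2,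
      fun v => ⟨fun hv i => by fin_cases i; exact hv.1, fun hv => ⟨hv 0, ?_⟩⟩⟩
    rw [hxz v (hv 0), hz0, C.form_zero_right]
  · refine Or.inr ⟨z, hz0, ?_, rest.1, hxz⟩
    rw [hz, rest.2, sub_eq_zero, eq_comm]
    exact not_not.1 h

theorem to_both (hr : Room C) (hn : 4 ≤ n) {a x v : USph C n} (hav : C.form a.1 v.1 = 0) (hvx : NonDeg v x) :
    ∃ u : USph C n, Both a x u ∧ Link a x v u := by
  have hB := (nonDeg_iff v x).1 hvx
  rcases shape a x with ⟨k, o, hk, ho, hox⟩ | ⟨z, hz0, hzz, hza, hzx⟩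
  · obtain ⟨e, e', he, he', hee, heo, heo'⟩ := two_perp o ho (by omega)
    obtain ⟨u, hu, h1, h2⟩ := avoid hr he he' hee v.1 (one_ne_zero (α := F))
      (show (1 : F) - nm C (C.form v.1 x.1) ≠ 0 from sub_ne_zero.2 hB.symm)
    obtain ⟨hua, hux⟩ := (hox u.1).2 fun i => hu _ (heo i) (heo' i)
    exact ⟨u, ⟨C.form_swap_zero hua, hux⟩, to_both_step hav hvx ⟨C.form_swap_zero hua, hux⟩ h1 h2⟩
  by_cases hvz : C.form z v.1 = 0
  · exact ⟨v, ⟨hav, by rw [hzx v.1 (C.form_swap_zero hav)]; exact C.form_swap_zero hvz⟩, EqvGen.refl v⟩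
  obtain ⟨e, he, hea, hez⟩ := exists_unit_perp (C := C) ![a.1]
    (fun i j => by fin_cases i; fin_cases j; simpa using a.2) ![z] (by omega)
  have hea : C.form e a.1 = 0 := hea 0
  have hez : C.form e z = 0 := hez 0
  set t := -(C.form e v.1) / C.form z v.1 with ht
  have hu : C.form (e + t • z) (e + t • z) = 1 := by
    simp [C.form_add_left, C.form_add_right, C.form_smul_left, C.form_smul_right, he, hzz, hez,
      C.form_swap_zero hez]
  have hua : C.form (e + t • z) a.1 = 0 := by simp [C.form_add_left, C.form_smul_left, hea, hza]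
  have hb : Both a x ⟨_, hu⟩ := ⟨C.form_swap_zero hua, by
    rw [hzx _ hua]; simp [C.form_add_left, C.form_smul_left, hez, hzz]⟩
  have huv : C.form (e + t • z) v.1 = 0 := by
    rw [C.form_add_left, C.form_smul_left, ht, div_mul_cancel₀ _ hvz, add_neg_cancel]
  exact ⟨⟨_, hu⟩, hb, to_both_step hav hvx hb (by rw [huv, nm_zero]; exact zero_ne_one)
    (by rw [huv, nm_zero]; exact (sub_ne_zero.2 hB.symm).symm)⟩

/-- two vectors of `Both` through a neighbour that is not in `Both` -/
theorem via_eta {a x u u' v : USph C n} (hu : Both a x u) (hu' : Both a x u') (hva : C.form v.1 a.1 = 0)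
    (hvu : C.form v.1 u.1 = 0) (hs : nm C (C.form v.1 x.1) ≠ 1) (h1 : nm C (C.form v.1 u'.1) ≠ 1)
    (h2 : nm C (C.form v.1 u'.1) ≠ 1 - nm C (C.form v.1 x.1)) : Link a x u u' := by
  have hav := C.form_swap_zero hva
  have hvx : NonDeg v x := (nonDeg_iff v x).2 hs
  refine EqvGen.trans _ v _ ?_ (to_both_step hav hvx hu' (by rwa [nm_form]) (by rwa [nm_form]))
  exact EqvGen.symm _ _ (to_both_step hav hvx hu (by rw [C.form_swap_zero hvu, nm_zero]; exact zero_ne_one)
    (by rw [C.form_swap_zero hvu, nm_zero]; exact (sub_ne_zero.2 hs.symm).symm))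

/-- a neighbour with prescribed product with the isotropic vector -/
theorem exists_eta {a u : USph C n} {z y f : Fin n → F} (hzz : C.form z z = 0) (hza : C.form z a.1 = 0)
    (hzu : C.form z u.1 = 0) (hua : C.form u.1 a.1 = 0) (hzy : C.form z y = 0) (hay : C.form a.1 y = 0)
    (huy : C.form u.1 y = 0) (hf : C.form f z ≠ 0) {η : F} (hη : η ≠ 0) :
    ∃ v : USph C n, C.form v.1 a.1 = 0 ∧ C.form v.1 u.1 = 0 ∧ C.form v.1 z = η ∧
      C.form v.1 y = η / C.form f z * C.form f y := by
  set g := (η / C.form f z) • (f - C.form f a.1 • a.1 - C.form f u.1 • u.1) with hg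
  have hau := C.form_swap_zero hua
  have hga : C.form g a.1 = 0 := by simp [hg, C.form_smul_left, C.form_sub_left, a.2, hua]
  have hgu : C.form g u.1 = 0 := by simp [hg, C.form_smul_left, C.form_sub_left, u.2, hau]
  have hgz : C.form g z = η := by
    simp [hg, C.form_smul_left, C.form_sub_left, C.form_swap_zero hza, C.form_swap_zero hzu, div_mul_cancel₀ _ hf]
  have hgy : C.form g y = η / C.form f z * C.form f y := by
    simp [hg, C.form_smul_left, C.form_sub_left, hay, huy]
  have hzg : C.form z g = C.bar η := by rw [← C.bar_form, hgz]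
  have hη' : C.bar η ≠ 0 := (map_ne_zero C.bar).2 hη
  obtain ⟨l, hl⟩ := C.exists_trace (c := 1 - C.form g g) (by rw [map_sub, map_one, C.form_self_fixed])
  have hl1 : l / C.bar η * C.bar η = l := div_mul_cancel₀ _ hη'
  have hl2 : C.bar (l / C.bar η) * η = C.bar l := by
    rw [map_div₀, C.bar_bar, div_mul_cancel₀ _ hη]
  have hv : C.form (g + (l / C.bar η) • z) (g + (l / C.bar η) • z) = 1 := by
    simp only [C.form_add_left, C.form_add_right, C.form_smul_left, C.form_smul_right, hzz, hgz, hzg]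
    linear_combination hl + hl1 + hl2
  refine ⟨⟨_, hv⟩, ?_, ?_, ?_, ?_⟩ <;> simp [C.form_add_left, C.form_smul_left, hga, hgu, hgz, hgy, hzz, hza, hzu,
    hzy]

/-- good values for a multiple of the isotropic vector -/
def Good (C : UCtx F q) (T : F) : Prop := ∃ s, C.bar s = s ∧ s ≠ 0 ∧ s ≠ 1 ∧ T * s ≠ 1 ∧ (1 + T) * s ≠ 1

theorem good_one (hr : Room C) : Good C 1 := by
  obtain ⟨t, ht, h0, h1, h2⟩ := hr 1 (1 + 1)⁻¹
  refine ⟨t, ht, h0, h1, by rwa [one_mul], fun h => h2 (eq_inv_of_mul_eq_one_right h)⟩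

/-- a multiple without good value is a sum of two of norm one -/
theorem good_or_split (hr : Room C) (τ : F) :
    Good C (nm C τ) ∨ ∃ σ σ' : F, nm C σ = 1 ∧ nm C σ' = 1 ∧ τ = σ + σ' := by
  set T := nm C τ with hT
  have hTf : C.bar T = T := nm_fixed τ
  rw [or_iff_not_imp_left]
  intro hg
  have hall : ∀ s, C.bar s = s → s ≠ 0 → s ≠ 1 → T * s = 1 ∨ (1 + T) * s = 1 := by
    intro s hs h0 h1
    by_contra h
    push Not at h
    exact hg ⟨s, hs, h0, h1, h.1, h.2⟩
  have hT0 : T ≠ 0 := by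
    intro h
    obtain ⟨t, ht, h0, h1, -⟩ := hr 1 1
    rcases hall t ht h0 h1 with e | e <;> rw [h] at e <;> simp at e
    exact h1 e
  have hT1 : T ≠ 1 := fun h => hg (h ▸ good_one hr)
  have hTm : 1 + T ≠ 0 := by
    intro h
    obtain ⟨t, ht, h0, h1, h2⟩ := hr 1 (-1)
    rcases hall t ht h0 h1 with e | e
    · exact h2 (by linear_combination -e + t * h)
    · rw [h, zero_mul] at e; exact zero_ne_one e
  have hA : T * T + T = 1 := by
    rcases hall T hTf hT0 hT1 with e | e
    · exact absurd (mul_eq_zero.1 (show (T - 1) * (T + 1) = 0 by linear_combination e)) (by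
        push Not; exact ⟨sub_ne_zero.2 hT1, by rwa [add_comm]⟩)
    · linear_combination e
  have h2 : (1 : F) + 1 = 0 := by
    by_contra h2
    rcases hall (-1) (by simp) (by simp) (fun h => h2 (by linear_combination -h)) with e | e
    · exact hTm (by linear_combination -e)
    · exact one_ne_zero (show (1 : F) = 0 by linear_combination (T - 1) * e + hA)
  obtain ⟨x, hx⟩ := C.exists_trace (c := (1 : F)) (map_one _)
  have hm : C.bar (x * C.bar x) = x * C.bar x := C.norm_fixed x
  set m := x * C.bar x with hm'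
  have hq : x * x + x + m = 0 := by linear_combination (x : F) * hx + x * h2
  have hm0 : m ≠ 0 := by
    intro h
    rcases mul_eq_zero.1 h with h | h
    · rw [h, map_zero] at hx; simp at hx
    · rw [(map_eq_zero C.bar).1 h, map_zero] at hx; simp at hx
  have hm1 : m ≠ 1 := by
    intro h
    have hx1 : x ≠ 1 := fun e => by
      rw [e, map_one] at hx; exact one_ne_zero (show (1 : F) = 0 by linear_combination hx)
    have hq' : x * x + x + 1 = 0 := by linear_combination hq - h
    have : (x - T) * (x - T * T) = 0 := by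
      linear_combination hq' + (T - 1 - x) * hA + (T - 1 - x) * h2
    rcases mul_eq_zero.1 this with e | e
    · rw [sub_eq_zero.1 e, hTf] at hx
      exact one_ne_zero (show (1 : F) = 0 by linear_combination -hx + T * h2)
    · rw [sub_eq_zero.1 e, map_mul, hTf] at hx
      exact one_ne_zero (show (1 : F) = 0 by linear_combination -hx + T * T * h2)
  obtain ⟨k, hk, hkm⟩ : ∃ k, C.bar k = k ∧ T * (m + k + k * k) = 1 := by
    rcases hall m hm hm0 hm1 with e | e
    · exact ⟨0, map_zero _, by linear_combination e⟩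
    · exact ⟨T, hTf, by linear_combination (1 - T) * e + (T + m) * hA⟩
  set w := T * (x + k) with hw
  have hwT : w + C.bar w = T := by
    rw [hw, map_mul, map_add, hTf, hk]
    linear_combination T * hx + T * k * h2
  have hwN : w * C.bar w = T := by
    rw [hw, map_mul, map_add, hTf, hk]
    linear_combination T * hkm + (T * T * k) * hx - T * T * hm'
  have hτ : C.bar τ ≠ 0 := (map_ne_zero C.bar).2 fun h => hT0 (by rw [hT, h, nm_zero])
  have hTτ : T = τ * C.bar τ := hT
  have hd : ∀ p : F, nm C (p / C.bar τ) = p * C.bar p / T := fun p => by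
    rw [nm, map_div₀, C.bar_bar, div_mul_div_comm, mul_comm (C.bar τ), ← hTτ]
  refine ⟨w / C.bar τ, (T - w) / C.bar τ, by rw [hd, hwN, div_self hT0], ?_, ?_⟩
  · rw [hd, map_sub, hTf, show (T - w) * (T - C.bar w) = T by linear_combination hwN - T * hwT, div_self hT0]
  · rw [← add_div, add_sub_cancel, hTτ, mul_div_cancel_right₀ _ hτ]

theorem link_multiple (hr : Room C) {a x : USph C n} {z : Fin n → F} (hz0 : z ≠ 0) (hzz : C.form z z = 0)
    (hza : C.form z a.1 = 0) (hzx : ∀ v : Fin n → F, C.form v a.1 = 0 → C.form v x.1 = C.form v z)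
    {u u' : USph C n} (hu : Both a x u) (hu' : Both a x u') {c τ : F} (he : u'.1 = c • u.1 + τ • z)
    (hg : Good C (nm C τ)) : Link a x u u' := by
  obtain ⟨s, hs, hs0, hs1, hs2, hs3⟩ := hg
  obtain ⟨η, hη⟩ := C.exists_norm hs
  have hη0 : η ≠ 0 := fun h => hs0 (by rw [← hη, h, zero_mul])
  obtain ⟨f, hf⟩ := C.exists_form_eq_one hz0
  have hua := C.form_swap_zero hu.1
  have hzu : C.form z u.1 = 0 := C.form_swap_zero (by rw [← hzx _ hua]; exact hu.2)
  obtain ⟨v, hva, hvu, hvz, -⟩ := exists_eta hzz hza hzu hua hzz (C.form_swap_zero hza)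
    (C.form_swap_zero hzu) (by rw [hf]; exact one_ne_zero) hη0
  have e1 : nm C (C.form v.1 x.1) = s := by rw [hzx _ hva, hvz, nm, hη]
  have e2 : nm C (C.form v.1 u'.1) = nm C τ * s := by
    rw [he, C.form_add_right, C.form_smul_right, C.form_smul_right, hvu, mul_zero, zero_add, hvz, nm_mul, nm_bar,
      show nm C η = s from hη]
  refine via_eta hu hu' hva hvu (by rwa [e1]) (by rwa [e2]) ?_
  rw [e1, e2]
  intro h
  exact hs3 (by linear_combination h)

theorem link_both (hr : Room C) (hn : 4 ≤ n) {a x u u' : USph C n} (hu : Both a x u) (hu' : Both a x u') :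
    Link a x u u' := by
  by_cases h : NonDeg u u'
  · exact hu.step hu' h
  set c := C.form u'.1 u.1 with hc
  set y := u'.1 - c • u.1 with hy
  have hyu : C.form y u.1 = 0 := rest.1
  have hyy : C.form y y = 0 := by rw [hy, hc, rest.2, sub_eq_zero, eq_comm]; exact not_not.1 h
  have hu'y : u'.1 = c • u.1 + y := by rw [hy, add_sub_cancel]
  have hua := C.form_swap_zero hu.1
  have hya : C.form y a.1 = 0 := by
    simp [hy, C.form_sub_left, C.form_smul_left, hua, C.form_swap_zero hu'.1]
  have hyx : C.form y x.1 = 0 := by simp [hy, C.form_sub_left, C.form_smul_left, hu.2, hu'.2]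
  rcases shape a x with ⟨k, o, hk, ho, hox⟩ | ⟨z, hz0, hzz, hza, hzx⟩
  · have huo := (hox u.1).1 ⟨hua, hu.2⟩
    have hyo := (hox y).1 ⟨hya, hyx⟩
    obtain ⟨e, he, heo, -⟩ := exists_unit_perp (C := C) (Fin.cons u.1 o) (fun i j => by
      refine Fin.cases ?_ (fun i => ?_) i <;> refine Fin.cases ?_ (fun j => ?_) j <;>
        simp [u.2, huo, ho, fun i => C.form_swap_zero (huo i), (Fin.succ_ne_zero _).symm])
      (Fin.elim0 : Fin 0 → Fin n → F) (by omega)
    obtain ⟨heu, heo⟩ : C.form e u.1 = 0 ∧ ∀ i, C.form e (o i) = 0 :=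
      ⟨by simpa using heo 0, fun i => by simpa using heo i.succ⟩
    obtain ⟨v, hvu, hvo, hvy⟩ : ∃ v : USph C n, C.form v.1 u.1 = 0 ∧ (∀ i, C.form v.1 (o i) = 0) ∧
        nm C (C.form v.1 y) ≠ 1 := by
      by_cases hey : nm C (C.form e y) = 1
      · set g := y - C.form y e • e with hg
        have hgg : C.form g g = -1 := by
          have hey' : C.form y e * C.form e y = 1 := by
            rw [← hey, nm, ← C.bar_form e y]; ring
          simp only [hg, C.form_sub_left, C.form_sub_right, C.form_smul_left, C.form_smul_right, hyy, he,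
            C.bar_form]
          linear_combination -hey'
        obtain ⟨d, -, hd⟩ := exists_normalise (C := C) (r := g) (by rw [hgg]; simp)
        have hge : C.form e (d • g) = 0 := by
          simp [hg, C.form_smul_right, C.form_sub_right, he, C.bar_form]
        obtain ⟨v, hv, h1, -⟩ := avoid hr he hd hge y (one_ne_zero (α := F)) one_ne_zero
        exact ⟨v, hv _ heu (by simp [hg, C.form_smul_left, C.form_sub_left, hyu, heu]),
          fun i => hv _ (heo i) (by simp [hg, C.form_smul_left, C.form_sub_left, hyo i, heo i]), h1⟩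
      · exact ⟨⟨e, he⟩, heu, heo, hey⟩
    obtain ⟨hva, hvx⟩ := (hox v.1).2 hvo
    have hv : Both a x v := ⟨C.form_swap_zero hva, hvx⟩
    refine EqvGen.trans _ v _ (hu.step hv (nonDeg_of_orth (C.form_swap_zero hvu))) (hv.step hu' ?_)
    rw [nonDeg_iff, hu'y, C.form_add_right, C.form_smul_right, hvu, mul_zero, zero_add]
    exact hvy
  · have hzu : C.form z u.1 = 0 := C.form_swap_zero (by rw [← hzx _ hua]; exact hu.2)
    have hyz : C.form y z = 0 := by rw [← hzx _ hya]; exact hyx
    by_cases hτ : ∃ τ : F, y = τ • z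
    · obtain ⟨τ, hτ⟩ := hτ
      have hc1 : c * C.bar c = 1 := not_not.1 h
      rcases good_or_split hr τ with hg | ⟨σ, σ', hσ, hσ', rfl⟩
      · exact link_multiple hr hz0 hzz hza hzx hu hu' (c := c) (τ := τ) (by rw [hu'y, hτ]) hg
      have hw : C.form (c • u.1 + σ • z) (c • u.1 + σ • z) = 1 := by
        simp [C.form_add_left, C.form_add_right, C.form_smul_left, C.form_smul_right, u.2, hzz, hzu,
          C.form_swap_zero hzu]
        exact hc1
      have hwa : C.form (c • u.1 + σ • z) a.1 = 0 := by simp [C.form_add_left, C.form_smul_left, hua, hza]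
      have hb : Both a x ⟨_, hw⟩ := ⟨C.form_swap_zero hwa, by
        rw [hzx _ hwa]; simp [C.form_add_left, C.form_smul_left, hzz, C.form_swap_zero hzu]⟩
      refine EqvGen.trans _ ⟨_, hw⟩ _
        (link_multiple hr hz0 hzz hza hzx hu hb (c := c) (τ := σ) rfl (hσ ▸ good_one hr))
        (link_multiple hr hz0 hzz hza hzx hb hu' (c := 1) (τ := σ') ?_ (hσ' ▸ good_one hr))
      rw [one_smul, hu'y, hτ, add_smul, add_assoc]
    obtain ⟨f, hfy, hfz⟩ : ∃ f, C.form f y = 0 ∧ C.form f z ≠ 0 := by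
      by_contra hf
      push Not at hf
      have hy0 : y ≠ 0 := fun e => hτ ⟨0, by rw [e, zero_smul]⟩
      obtain ⟨b, hb⟩ := C.eq_smul_of_orth hy0 hf
      refine hτ ⟨b⁻¹, ?_⟩
      rw [hb, inv_smul_smul₀ (fun e => hz0 (by rw [hb, e, zero_smul]))]
    obtain ⟨s, hs, hs0, hs1, -⟩ := hr 1 1
    obtain ⟨η, hη⟩ := C.exists_norm hs
    have hη0 : η ≠ 0 := fun e => hs0 (by rw [← hη, e, zero_mul])
    obtain ⟨v, hva, hvu, hvz, hvy⟩ := exists_eta hzz hza hzu hua (C.form_swap_zero hyz) (C.form_swap_zero hya)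
      (C.form_swap_zero hyu) hfz hη0
    have e1 : nm C (C.form v.1 x.1) = s := by rw [hzx _ hva, hvz, nm, hη]
    have e2 : C.form v.1 u'.1 = 0 := by
      rw [hu'y, C.form_add_right, C.form_smul_right, hvu, hvy, hfy, mul_zero, mul_zero, add_zero]
    refine via_eta hu hu' hva hvu (by rwa [e1]) ?_ ?_ <;> rw [e2, nm_zero]
    · exact zero_ne_one
    · rw [e1]; exact (sub_ne_zero.2 hs1.symm).symm

/-- the graph -/
theorem graph (hr : Room C) (hn : 4 ≤ n) (a : USph C n) :
    Cover.Graph ↥(Cfsg.SU n F q) (NonDeg (C := C) (n := n)) Tri a where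
  symm _ _ h := nonDeg_symm h
  inv g _ _ h := nonDeg_smul g h
  invT g _ _ _ h := tri_smul g h
  mid x y h := by
    obtain ⟨z, hzz, hzx, ⟨c, d, hcd⟩, -⟩ := exists_plane h
    obtain ⟨e, e', he, he', hee, heo, heo'⟩ :=
      two_perp ![x.1, z] (on_two x.2 hzz (C.form_swap_zero hzx)) (by omega)
    obtain ⟨v, hv, h1, -⟩ := avoid hr he he' hee a.1 (one_ne_zero (α := F)) one_ne_zero
    have hvx : C.form v.1 x.1 = 0 := hv _ (heo 0) (heo' 0)
    have hvy : C.form v.1 y.1 = 0 := by
      rw [hcd, C.form_add_right, C.form_smul_right, C.form_smul_right, hvx,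
        show C.form v.1 z = 0 from hv _ (heo 1) (heo' 1)]
      simp
    exact ⟨v, nonDeg_symm ((nonDeg_iff v a).2 h1), nonDeg_of_orth hvx, nonDeg_of_orth hvy,
      (tri_perp_left hvx hvy).2 h⟩
  mid_two x := by
    obtain ⟨e, e', he, he', hee, heo, heo'⟩ :=
      two_perp ![x.1] (fun i j => by fin_cases i; fin_cases j; simpa using x.2) (by omega)
    obtain ⟨v, hv, h1, -⟩ := avoid hr he he' hee a.1 (one_ne_zero (α := F)) one_ne_zero
    exact ⟨v, nonDeg_symm ((nonDeg_iff v a).2 h1), nonDeg_of_orth (hv _ (heo 0) (heo' 0))⟩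
  conn x w w' haw hwx haw' hwx' := by
    obtain ⟨v, hv1, hv2, hwv⟩ := to_perp hr hn haw hwx
    obtain ⟨u, hu, hvu⟩ := to_both hr hn hv1 hv2
    obtain ⟨v', hv1', hv2', hwv'⟩ := to_perp hr hn haw' hwx'
    obtain ⟨u', hu', hvu'⟩ := to_both hr hn hv1' hv2'
    exact ((hwv.trans _ v _ hvu).trans _ u _ (link_both hr hn hu hu')).trans _ u' _
      (EqvGen.symm _ _ (hwv'.trans _ v' _ hvu'))

end CfsgLib.Phan.SphereGraph
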