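import Cfsg.Agent.Lib.Phan.AutTwo
import Cfsg.Agent.Lib.SU.BalanceBase
import Cfsg.Agent.Lib.Lie.BoundedPres.SU.Step
import Cfsg.Agent.Lib.Phan.Graph

/-!
# Matching the identifications of consecutive rank two pieces
-/

set_option autoImplicit false
set_option linter.all false

namespace CfsgLib.Phan

open Matrix CfsgLib.SU CfsgLib.Lie.BoundedPres.SUBase CfsgLib.Lie.BoundedPres.SUGraph

universe u

variable {F : Type u} [Field F] [Fintype F] {q : ℕ} {C : UCtx F q}

/-- the shared block contains no other conjugates of the far block in a proper subgroup -/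
theorem eq_top_of_conj (hq : ∃ s : F, C.bar s = s ∧ s ≠ 0 ∧ s ≠ 1) {P : Subgroup ↥(Cfsg.SU 3 F q)}
    {p r : F} (h : p * C.bar p + r * C.bar r = 1) (hr : r ≠ 0) (h1 : (e1 C).range ≤ P)
    (h2 : ∀ B, e0 C (su2 C p r h) * e1 C B * (e0 C (su2 C p r h))⁻¹ ∈ P) : P = ⊤ := by
  classical
  set E := e0 C (su2 C p r h)
  set w : Fin 3 → F := p • sv 0 + r • sv 1 with hw
  have hE : E.1.1 *ᵥ sv 0 = w := by
    rw [show (sv 0 : Fin 3 → F) = sv (win (n := 3) 2 0 (by norm_num) 0) from rfl, emb_sv, su2_col0]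
    simp [Matrix.mulVec_add, Matrix.mulVec_smul, inc_mulVec_sv, hw]
    rfl
  have hsw : ∀ X : ↥(Cfsg.SU 3 F q), X.1.1 *ᵥ w = w → X ∈ P := fun X hX => by
    obtain ⟨B, hB⟩ : E⁻¹ * X * E ∈ (e1 C).range :=
      mem_e1.2 (by rw [suMat_mulVec_mul, suMat_mulVec_mul, hE, hX, ← hE, su_inv_mulVec])
    have := h2 B
    rwa [hB, show E * (E⁻¹ * X * E) * E⁻¹ = X by group] at this
  set y := C.bar p / C.bar r
  obtain ⟨z, hz⟩ := C.exists_norm (c := 1 - y * C.bar y) (by rw [map_sub, map_one, C.norm_fixed])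
  set u : Fin 3 → F := y • sv 1 + z • sv 2 with hu
  have hf : ∀ i j : Fin 3, C.form (sv i) (sv j : Fin 3 → F) = if i = j then 1 else 0 := form_sv C
  have huu : C.form u u = 1 := by
    simp [hu, C.form_add_left, C.form_add_right, C.form_smul_left, C.form_smul_right, hf]
    linear_combination hz
  have hww : C.form w w = 1 := by rw [← hE, C.form_su, hf, if_pos rfl]
  have huw : C.form u w = C.bar p := by
    simp [hu, hw, C.form_add_left, C.form_add_right, C.form_smul_left, C.form_smul_right, hf]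
    have hr' : C.bar r ≠ 0 := (map_ne_zero C.bar).2 hr
    simp only [y]
    field_simp
  have h0w : C.form (sv 0) w = C.bar p := by
    simp [hw, C.form_add_left, C.form_add_right, C.form_smul_left, C.form_smul_right, hf]
  obtain ⟨A, hA⟩ := exists_su_move_tuple (C := C) (t := ![w, sv 0]) (t' := ![w, u])
    (by
      rw [Fintype.linearIndependent_iff]
      intro c hc
      have e1 := congrFun hc 1
      have e0 := congrFun hc 0
      simp [Fin.sum_univ_two, hw, sv, Pi.single_apply] at e0 e1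
      have c0 : c 0 = 0 := e1.resolve_right hr
      exact Fin.forall_fin_two.2 ⟨c0, by simpa [c0] using e0⟩)
    (by
      rw [Fintype.linearIndependent_iff]
      intro c hc
      have e0 := congrFun hc 0
      have e1 := congrFun hc 1
      have e2 := congrFun hc 2
      simp [Fin.sum_univ_two, hw, hu, sv, Pi.single_apply] at e0 e1 e2
      have c1 : c 1 = 0 := by
        rcases e2 with e | e
        · exact e
        rcases e0 with e' | e'
        · rw [e', zero_mul, zero_add] at e1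
          rcases mul_eq_zero.1 e1 with h | h
          · exact h
          · rw [e, h, zero_mul, sub_zero] at hz; simp at hz
        · rw [e, show y = 0 by simp [y, e'], zero_mul, sub_zero] at hz; simp at hz
      exact Fin.forall_fin_two.2 ⟨by simpa [c1, hr] using e1, c1⟩)
    (fun i j => by
      fin_cases i <;> fin_cases j <;> simp [hww, huu, hf, h0w, huw]
      rw [← C.bar_form, h0w, ← C.bar_form u w, huw])
    (w := sv 2) (by rw [hf, if_pos rfl])
    (fun i => by fin_cases i <;> simp [hw, C.form_add_left, C.form_smul_left, hf])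
  have hA0 : A.1.1 *ᵥ sv 0 = u := hA 1
  have hAP : A ∈ P := hsw A (hA 0)
  have hsu : ∀ X : ↥(Cfsg.SU 3 F q), X.1.1 *ᵥ u = u → X ∈ P := fun X hX => by
    have hm : A⁻¹ * X * A ∈ P :=
      h1 (mem_e1.2 (by rw [suMat_mulVec_mul, suMat_mulVec_mul, hA0, hX, ← hA0, su_inv_mulVec]))
    have := mul_mem (mul_mem hAP hm) (inv_mem hAP)
    rwa [show A * (A⁻¹ * X * A) * A⁻¹ = X by group] at this
  have hu0 : C.form (sv 0) u = 0 := by
    simp [hu, C.form_add_right, C.form_smul_right, hf]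
  obtain ⟨B, hB⟩ := exists_su_move_tuple (C := C) (t := ![sv 0, sv 2]) (t' := ![sv 0, u])
    (li_coord C (on_two (by rw [hf, if_pos rfl]) (by rw [hf, if_pos rfl]) (by rw [hf, if_neg (by decide)])))
    (li_coord C (on_two (by rw [hf, if_pos rfl]) huu hu0))
    (fun i j => by fin_cases i <;> fin_cases j <;> simp [hf, huu, hu0, C.form_swap_zero hu0])
    (w := sv 1) (by rw [hf, if_pos rfl]) (fun i => by fin_cases i <;> simp [hf])
  have hBP : B ∈ P := h1 (mem_e1.2 (hB 0))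
  have hB2 : B.1.1 *ᵥ sv 2 = u := hB 1
  refine eq_top_iff.2 (closure_blocks hq ▸ sup_le (fun X hX => ?_) h1)
  have hm : B * X * B⁻¹ ∈ P := hsu _ (by
    rw [suMat_mulVec_mul, suMat_mulVec_mul, ← hB2, su_inv_mulVec, mem_e0.1 hX])
  have := mul_mem (mul_mem (inv_mem hBP) hm) hBP
  rwa [show B⁻¹ * (B * X * B⁻¹) * B = X by group] at this

variable {G : Type*} [Group G]

/-- one rank two piece -/
structure Piece (C : UCtx F q) (φ : ↥(Cfsg.SU 3 F q) →* G) (A B : Subgroup G) : Prop where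
  ker_le : φ.ker ≤ Subgroup.center _
  left : (e0 C).range.map φ = A
  right : (e1 C).range.map φ = B

theorem scalar_fix {X : ↥(Cfsg.SU 3 F q)} (hX : X ∈ Subgroup.center _) {i : Fin 3}
    (h : X.1.1 *ᵥ sv i = sv i) (C : UCtx F q) : X = 1 := by
  obtain ⟨c, hc⟩ := scalar_of_central (C := C) le_rfl hX
  have h1 := congrFun h i
  rw [hc, Matrix.smul_mulVec, Matrix.one_mulVec] at h1
  simp [sv] at h1
  exact Subtype.ext (Subtype.ext (by rw [hc, h1, one_smul]; rfl))

theorem Piece.inj_left {φ : ↥(Cfsg.SU 3 F q) →* G} {A B : Subgroup G} (P : Piece C φ A B) :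
    Function.Injective (φ.comp (e0 C)) :=
  (injective_iff_map_eq_one _).2 fun X hX => (injective_iff_map_eq_one _).1 emb_injective X
    (scalar_fix (P.ker_le hX) (mem_e0.1 ⟨X, rfl⟩) C)

theorem Piece.inj_right {φ : ↥(Cfsg.SU 3 F q) →* G} {A B : Subgroup G} (P : Piece C φ A B) :
    Function.Injective (φ.comp (e1 C)) :=
  (injective_iff_map_eq_one _).2 fun X hX => (injective_iff_map_eq_one _).1 emb_injective X
    (scalar_fix (P.ker_le hX) (mem_e1.1 ⟨X, rfl⟩) C)

/-- diagonal elements of the second block normalise the first -/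
theorem norm_left {t : ↥(Cfsg.SU 2 F q)} (ht : t ∈ dTor) (X : ↥(Cfsg.SU 3 F q)) (hX : X ∈ (e0 C).range) :
    e1 C t * X * (e1 C t)⁻¹ ∈ (e0 C).range := by
  obtain ⟨p, r, h, rfl⟩ := su2_eq (C := C) t
  have hr : r = 0 := by simpa [su2, UCtx.mkSU] using ht.2
  set T := e1 C (su2 C p r h)
  have hT : T.1.1 *ᵥ sv 2 = C.bar p • (sv 2 : Fin 3 → F) := by
    rw [show (sv 2 : Fin 3 → F) = sv (win (n := 3) 2 1 (by norm_num) 1) from rfl, emb_sv, su2_col1]
    simp [Matrix.mulVec_add, Matrix.mulVec_smul, inc_mulVec_sv, hr]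
  have hp : C.bar p ≠ 0 := fun e => by
    rw [(map_eq_zero C.bar).1 e, hr] at h; simp at h
  have hT' : (T⁻¹).1.1 *ᵥ sv 2 = (C.bar p)⁻¹ • (sv 2 : Fin 3 → F) := by
    have h1 := su_inv_mulVec T (sv 2)
    rw [hT, Matrix.mulVec_smul] at h1
    exact (eq_inv_smul_iff₀ hp).2 h1
  refine mem_e0.2 ?_
  rw [suMat_mulVec_mul, suMat_mulVec_mul, hT', Matrix.mulVec_smul, mem_e0.1 hX, Matrix.mulVec_smul, hT,
    inv_smul_smul₀ hp]

theorem not_commute {φ : ↥(Cfsg.SU 3 F q) →* G} {A B : Subgroup G} (P : Piece C φ A B) :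
    ¬ ∀ a ∈ A, ∀ b ∈ B, a * b = b * a := by
  intro h
  set X := e0 C (su2 C 0 1 (by simp))
  set Y := e1 C (su2 C 0 1 (by simp))
  have hXA : φ X ∈ A := by rw [← P.left]; exact Subgroup.mem_map_of_mem φ ⟨_, rfl⟩
  have hYB : φ Y ∈ B := by rw [← P.right]; exact Subgroup.mem_map_of_mem φ ⟨_, rfl⟩
  have hc := h _ hXA _ hYB
  have hz : (Y * X)⁻¹ * (X * Y) ∈ φ.ker := by
    rw [MonoidHom.mem_ker, map_mul, map_inv, map_mul, map_mul, hc, inv_mul_cancel]
  obtain ⟨c, hcz⟩ := scalar_of_central (C := C) le_rfl (P.ker_le hz)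
  have hXY : X * Y = (Y * X) * ((Y * X)⁻¹ * (X * Y)) := by group
  generalize (Y * X)⁻¹ * (X * Y) = Z at hcz hXY
  have h2 := congrArg (fun Z : ↥(Cfsg.SU 3 F q) => Z.1.1 *ᵥ (sv 2 : Fin 3 → F)) hXY
  simp only [suMat_mulVec_mul] at h2
  rw [hcz, Matrix.smul_mulVec, Matrix.one_mulVec, Matrix.mulVec_smul, Matrix.mulVec_smul] at h2
  have hX2 : X.1.1 *ᵥ sv 2 = sv 2 := mem_e0.1 ⟨_, rfl⟩
  have hY2 : Y.1.1 *ᵥ sv 2 = -(sv 1 : Fin 3 → F) := by
    rw [show (sv 2 : Fin 3 → F) = sv (win (n := 3) 2 1 (by norm_num) 1) from rfl, emb_sv, su2_col1]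
    simp [Matrix.mulVec_neg, inc_mulVec_sv]
    rfl
  have hX1 : X.1.1 *ᵥ sv 1 = -(sv 0 : Fin 3 → F) := by
    rw [show (sv 1 : Fin 3 → F) = sv (win (n := 3) 2 0 (by norm_num) 1) from rfl, emb_sv, su2_col1]
    simp [Matrix.mulVec_neg, inc_mulVec_sv]
    rfl
  rw [hX2, hY2, Matrix.mulVec_neg, hX1, neg_neg] at h2
  have := congrFun h2 0
  simp [sv] at this

/-- the common torus -/
theorem torus_match (hq : ∃ s : F, C.bar s = s ∧ s ≠ 0 ∧ s ≠ 1) {φ φ' : ↥(Cfsg.SU 3 F q) →* G}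
    {A B D : Subgroup G} (P : Piece C φ A B) (P' : Piece C φ' B D)
    (hc : ∀ a ∈ A, ∀ d ∈ D, a * d = d * a) {t s : ↥(Cfsg.SU 2 F q)} (ht : t ∈ dTor)
    (hs : φ' (e0 C s) = φ (e1 C t)) : s ∈ dTor := by
  obtain ⟨p, r, h, rfl⟩ := su2_eq (C := C) s
  by_cases hr : r = 0
  · subst hr; exact ⟨by simp [su2, UCtx.mkSU], by simp [su2, UCtx.mkSU]⟩
  refine absurd ?_ (not_commute P)
  have hP : (Subgroup.centralizer (A : Set G)).comap φ' = ⊤ := by
    refine eq_top_of_conj (C := C) hq h hr ?_ fun X => ?_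
    · exact fun Y hY a ha => hc a ha _ (P'.right ▸ Subgroup.mem_map_of_mem φ' hY)
    · intro a ha
      obtain ⟨Y, hY, rfl⟩ := (P.left ▸ ha : a ∈ (e0 C).range.map φ)
      obtain ⟨Z, hZ, hZe⟩ : ∃ Z ∈ (e0 C).range, (φ (e1 C t))⁻¹ * φ Y * φ (e1 C t) = φ Z := by
        refine ⟨(e1 C t⁻¹) * Y * (e1 C t⁻¹)⁻¹, norm_left (inv_mem ht) Y hY, ?_⟩
        simp [map_mul, map_inv]
      have h1 := hc (φ Z) (P.left ▸ Subgroup.mem_map_of_mem φ hZ) (φ' (e1 C X))
        (P'.right ▸ Subgroup.mem_map_of_mem φ' ⟨X, rfl⟩)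
      rw [← hZe] at h1
      rw [map_mul, map_mul, map_inv, hs]
      generalize φ (e1 C t) = d at h1 ⊢
      generalize φ' (e1 C X) = x at h1 ⊢
      calc φ Y * (d * x * d⁻¹) = d * (d⁻¹ * φ Y * d * x) * d⁻¹ := by group
        _ = d * (x * (d⁻¹ * φ Y * d)) * d⁻¹ := by rw [h1]
        _ = d * x * d⁻¹ * φ Y := by group
  intro a ha b hb
  obtain ⟨Y, hY, rfl⟩ := (P'.left ▸ hb : b ∈ (e0 C).range.map φ')
  exact (hP.ge (Subgroup.mem_top Y) : φ' Y ∈ Subgroup.centralizer (A : Set G)) a ha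

/-- the rank two pieces with matching identifications -/
structure Sys (C : UCtx F q) (N : ℕ) (G : Type*) [Group G] where
  φ : ℕ → ↥(Cfsg.SU 3 F q) →* G
  ψ : ℕ → ↥(Cfsg.SU 2 F q) →* G
  left : ∀ i, i + 3 ≤ N → ∀ A, φ i (e0 C A) = ψ i A
  right : ∀ i, i + 3 ≤ N → ∀ A, φ i (e1 C A) = ψ (i + 1) A
  comm : ∀ i j, i + 2 ≤ j → j + 2 ≤ N → ∀ A B, Commute (ψ i A) (ψ j B)

/-- matching, given extensions of automorphisms keeping the diagonal subgroup -/
theorem exists_sys_of_extend (hs3 : ∃ s : F, C.bar s = s ∧ s ≠ 0 ∧ s ≠ 1)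
    (hext : ∀ β : MulAut ↥(Cfsg.SU 2 F q), (∀ X ∈ dTor, β X ∈ dTor) →
      ∃ α : MulAut ↥(Cfsg.SU 3 F q), (∀ A, α (e0 C A) = e0 C (β A)) ∧
        (e1 C).range.map α.toMonoidHom = (e1 C).range)
    {N : ℕ} (hN : 4 ≤ N) (U : ℕ → Subgroup G)
    (φ₀ : ℕ → ↥(Cfsg.SU 3 F q) →* G) (hP : ∀ i, i + 3 ≤ N → Piece C (φ₀ i) (U i) (U (i + 1)))
    (hc : ∀ i j, i + 2 ≤ j → j + 2 ≤ N → ∀ x ∈ U i, ∀ y ∈ U j, x * y = y * x) :
    ∃ S : Sys C N G, ∀ j, j + 2 ≤ N → (S.ψ j).range = U j := by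
  classical
  have key : ∀ m, ∃ φ : ℕ → ↥(Cfsg.SU 3 F q) →* G, (∀ i, i + 3 ≤ N → Piece C (φ i) (U i) (U (i + 1))) ∧
      ∀ i, i < m → i + 4 ≤ N → ∀ A, φ i (e1 C A) = φ (i + 1) (e0 C A) := by
    intro m
    induction m with
    | zero => exact ⟨φ₀, hP, fun i h => absurd h (by omega)⟩
    | succ m ih =>
      obtain ⟨φ, hφ, hcoh⟩ := ih
      by_cases hm : m + 4 ≤ N
      swap
      · exact ⟨φ, hφ, fun i hi hiN A => hcoh i (by omega) hiN A⟩
      have P := hφ m (by omega)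
      have P' := hφ (m + 1) (by omega)
      have hr : ((φ m).comp (e1 C)).range = ((φ (m + 1)).comp (e0 C)).range := by
        rw [MonoidHom.range_comp, MonoidHom.range_comp, P.right, P'.left]
      let β : MulAut ↥(Cfsg.SU 2 F q) := (MonoidHom.ofInjective P.inj_right).trans
        ((MulEquiv.subgroupCongr hr).trans (MonoidHom.ofInjective P'.inj_left).symm)
      have hβ : ∀ A, φ (m + 1) (e0 C (β A)) = φ m (e1 C A) := fun A => by
        have := (MonoidHom.ofInjective P'.inj_left).apply_symm_apply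
          (MulEquiv.subgroupCongr hr (MonoidHom.ofInjective P.inj_right A))
        exact congrArg Subtype.val this
      obtain ⟨α, hα, hα1⟩ := hext β fun A hA =>
        torus_match hs3 P P' (hc m (m + 1 + 1) (by omega) (by omega)) hA (hβ A)
      refine ⟨Function.update φ (m + 1) ((φ (m + 1)).comp α.toMonoidHom), fun i hi => ?_, fun i hi hiN A => ?_⟩
      · by_cases h : i = m + 1
        · subst h
          rw [Function.update_self]
          refine ⟨fun X hX => ?_, ?_, ?_⟩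
          · have h1 : α X ∈ Subgroup.center _ := P'.ker_le hX
            have h2 := Subgroup.mem_map_of_mem α.symm.toMonoidHom h1
            rw [Subgroup.characteristic_iff_map_eq.1 inferInstance α.symm] at h2
            simpa using h2
          · rw [← P'.left, MonoidHom.range_eq_map, Subgroup.map_map, Subgroup.map_map, ← MonoidHom.range_eq_map,
              ← MonoidHom.range_eq_map]
            refine le_antisymm ?_ ?_
            · rintro _ ⟨A, rfl⟩
              exact ⟨β A, by simp [hα]⟩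
            · rintro _ ⟨A, rfl⟩
              exact ⟨β.symm A, by simp [hα]⟩
          · rw [← P'.right, ← Subgroup.map_map, hα1]
        · rw [Function.update_of_ne h]; exact hφ i hi
      · rw [Function.update_of_ne (show i ≠ m + 1 by omega)]
        by_cases h : i = m
        · subst h
          rw [Function.update_self]
          simp [hα, hβ]
        · rw [Function.update_of_ne (show i + 1 ≠ m + 1 by omega)]
          exact hcoh i (by omega) hiN A
  obtain ⟨φ, hφ, hcoh⟩ := key N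
  let ψ : ℕ → ↥(Cfsg.SU 2 F q) →* G := fun j =>
    if j + 3 ≤ N then (φ j).comp (e0 C) else (φ (j - 1)).comp (e1 C)
  have hψ : ∀ j, j + 2 ≤ N → (ψ j).range = U j := fun j hj => by
    by_cases h : j + 3 ≤ N
    · simp only [ψ, if_pos h, MonoidHom.range_comp, (hφ j h).left]
    · simp only [ψ, if_neg h, MonoidHom.range_comp, (hφ (j - 1) (by omega)).right]
      congr 1; omega
  refine ⟨⟨φ, ψ, fun i hi A => by simp [ψ, hi], fun i hi A => ?_,
    fun i j hij hj A B => hc i j hij hj _ (hψ i (by omega) ▸ ⟨A, rfl⟩) _ (hψ j hj ▸ ⟨B, rfl⟩)⟩, hψ⟩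
  by_cases h : i + 4 ≤ N
  · simp [ψ, show i + 1 + 3 ≤ N by omega, hcoh i (by omega) h A]
  · simp [ψ, show ¬ i + 1 + 3 ≤ N by omega]

/-- matching -/
theorem exists_sys (hF : Fintype.card F = q ^ 2) (hq : 3 < q) {N : ℕ} (hN : 4 ≤ N) (U : ℕ → Subgroup G)
    (φ₀ : ℕ → ↥(Cfsg.SU 3 F q) →* G) (hP : ∀ i, i + 3 ≤ N → Piece C (φ₀ i) (U i) (U (i + 1)))
    (hc : ∀ i j, i + 2 ≤ j → j + 2 ≤ N → ∀ x ∈ U i, ∀ y ∈ U j, x * y = y * x) :
    ∃ S : Sys C N G, ∀ j, j + 2 ≤ N → (S.ψ j).range = U j := by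
  obtain ⟨s, h1, h2, h3, -⟩ := (SphereGraph.room (C := C) hF (by omega)) 1 1
  exact exists_sys_of_extend ⟨s, h1, h2, h3⟩ (exists_extend C hF hq) hN U φ₀ hP hc

end CfsgLib.Phan
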