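import Cfsg.Agent.Lib.Phan.Emb
import Cfsg.Agent.Lib.AutPSL.Main
import Cfsg.Agent.Lib.Classical.SUTwoSL
import Cfsg.Agent.Lib.Classical.SLNormalized
import Cfsg.Agent.Lib.SU.Ind

/-!
# Automorphisms of the unitary group of dimension two that keep the diagonal subgroup
-/

set_option autoImplicit false
set_option linter.all false

namespace CfsgLib.Phan

open Matrix CfsgLib.SU CfsgLib.Lie.BoundedPres.SUBase CfsgLib.Lie.BoundedPres.SUGraph
open scoped MatrixGroups commutatorElement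

universe u

variable {F : Type u} [Field F] [Fintype F] {q : ℕ}

/-- automorphisms of `SL₂` are semilinear -/
theorem sl_aut (K : Type u) [Field K] [Fintype K] (h : 3 < Fintype.card K) (γ : MulAut SL(2, K)) :
    ∃ (g : GL (Fin 2) K) (σ : RingAut K), γ = AutPSL.slConj g * AutPSL.slField σ := by
  classical
  obtain ⟨g, σ, hg | hg⟩ := AutPSL.aut_classify (F := K) (le_refl 2) (AutPSL.quotAut γ)
  swap
  · omega
  refine ⟨g, σ, inv_mul_eq_one.1 (MulEquiv.ext fun x => ?_) |>.symm⟩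
  set δ := (AutPSL.slConj g * AutPSL.slField σ)⁻¹ * γ with hδ
  have hq : AutPSL.quotAut δ = 1 := by
    rw [hδ, map_mul, map_inv, hg, AutPSL.ind, inv_mul_cancel]
  have hz : ∀ a, ∃ z ∈ Subgroup.center SL(2, K), δ a = a * z := fun a => by
    refine ⟨a⁻¹ * δ a, ?_, by rw [mul_inv_cancel_left]⟩
    have h1 : AutPSL.quotAut δ (AutPSL.proj a) = AutPSL.proj a := by rw [hq]; rfl
    rw [AutPSL.quotAut_proj] at h1
    exact QuotientGroup.eq.1 h1.symm
  have hcomm : commutator SL(2, K) ≤ (δ.toMonoidHom).eqLocus (MonoidHom.id _) := by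
    rw [commutator_def, Subgroup.commutator_le]
    intro a _ b _
    obtain ⟨z, hzc, ha⟩ := hz a
    obtain ⟨w, hwc, hb⟩ := hz b
    show δ ⁅a, b⁆ = ⁅a, b⁆
    have e1 : ∀ {z : SL(2, K)}, z ∈ Subgroup.center SL(2, K) → ∀ y : SL(2, K), z * y * z⁻¹ = y := fun hzc y => by
      rw [← Subgroup.mem_center_iff.1 hzc y, mul_inv_cancel_right]
    rw [commutatorElement_def, map_mul, map_mul, map_mul, map_inv, map_inv, ha, hb,
      show a * z * (b * w) * (a * z)⁻¹ * (b * w)⁻¹ = a * (z * (b * w) * z⁻¹) * a⁻¹ * (w⁻¹ * b⁻¹) by group,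
      e1 hzc, show a * (b * w) * a⁻¹ * (w⁻¹ * b⁻¹) = a * b * (w * a⁻¹ * w⁻¹) * b⁻¹ by group, e1 hwc]
  exact (Classical.sl_perfect_and_psl_simple (F := K) (n := 2) le_rfl (by omega)).1 ▸ hcomm <|
    Subgroup.mem_top x

variable (C : UCtx F q)

include C in
/-- the isomorphism with `SL₂` of the fixed field is a conjugation -/
theorem explicit_iso (hF : Fintype.card F = q ^ 2) :
    ∃ (P : GL (Fin 2) F) (e : SL(2, Descent.fixedField C.bar) ≃* ↥(Cfsg.SU 2 F q)),
      ∀ A, (e A).1.1 = P.1 * A.1.map (Descent.fixedField C.bar).subtype * (P⁻¹).1 := by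
  classical
  obtain ⟨P, d, hd0, hP, hH⟩ := Classical.SUTwoSL.exists_frame C
  let Ps : GL (Fin 2) F := Matrix.GeneralLinearGroup.mkOfDetNeZero P hP
  let L := Descent.fixedField C.bar
  let f : SL(2, L) →* SL(2, F) :=
    (AutPSL.slConj Ps).toMonoidHom.comp (Matrix.SpecialLinearGroup.map L.subtype)
  have hf : ∀ A : SL(2, L), (f A).1 = P * A.1.map L.subtype * (Ps⁻¹).1 := fun A => rfl
  have hmem : ∀ A, f A ∈ Cfsg.SU 2 F q := fun A => by
    rw [Classical.SUTwoSL.su_iff_mat C, hf]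
    set B := A.1.map L.subtype
    have hB : B.map C.bar = B := by ext i j; exact (A.1 i j).2
    have hBd : B.det = 1 := by
      rw [show B = L.subtype.mapMatrix A.1 from rfl, ← RingHom.map_det, A.2, map_one]
    have hJ : Bᵀ * !![0, d; -d, 0] * B = !![0, d; -d, 0] := by
      rw [Matrix.det_fin_two] at hBd
      ext i j
      fin_cases i <;> fin_cases j <;> simp [Matrix.mul_apply, Fin.sum_univ_two]
      · ring
      · linear_combination d * hBd
      · linear_combination -d * hBd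
      · ring
    rw [show (P * B * (Ps⁻¹).1)ᵀ * (P * B * (Ps⁻¹).1).map C.bar =
        ((Ps⁻¹).1)ᵀ * (Bᵀ * (Pᵀ * P.map C.bar) * B.map C.bar) * ((Ps⁻¹).1).map C.bar by
      simp only [Matrix.transpose_mul, Matrix.map_mul, Matrix.mul_assoc], hB, hH, hJ, ← hH]
    calc ((Ps⁻¹).1)ᵀ * (Pᵀ * P.map C.bar) * ((Ps⁻¹).1).map C.bar
        = (P * (Ps⁻¹).1)ᵀ * (P * (Ps⁻¹).1).map C.bar := by
          simp only [Matrix.transpose_mul, Matrix.map_mul, Matrix.mul_assoc]
      _ = 1 := by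
        rw [show P * (Ps⁻¹).1 = 1 from Ps.mul_inv, Matrix.transpose_one,
          Matrix.map_one _ (map_zero _) (map_one _), Matrix.one_mul]
  let g := f.codRestrict _ hmem
  have hg : Function.Injective g := fun A B h => by
    have h1 : f A = f B := congrArg Subtype.val h
    have h2 := (AutPSL.slConj Ps).injective h1
    exact Subtype.ext (Matrix.ext fun i j => Subtype.ext (congrFun (congrFun (congrArg Subtype.val h2) i) j))
  letI : Fintype L := Fintype.ofFinite _
  have hcard : Nat.card SL(2, L) = Nat.card ↥(Cfsg.SU 2 F q) := by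
    obtain ⟨e⟩ := Classical.SUTwoSL.main C hF (K := L)
      (by rw [← Nat.card_eq_fintype_card]; exact card_fixed (C := C) hF)
    exact (Nat.card_congr e.toEquiv).symm
  exact ⟨Ps, MulEquiv.ofBijective g ((Nat.bijective_iff_injective_and_card g).2 ⟨hg, hcard⟩), fun A => hf A⟩

include C in
/-- automorphisms of the unitary group of dimension two are semilinear -/
theorem su_two_aut (hF : Fintype.card F = q ^ 2) (hq : 3 < q) (β : MulAut ↥(Cfsg.SU 2 F q)) :
    ∃ (h : GL (Fin 2) F) (τ : RingAut F), ∀ X, (β X).1.1 = h.1 * X.1.1.map τ * (h⁻¹).1 := by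
  classical
  obtain ⟨P, e, he⟩ := explicit_iso C hF
  let L := Descent.fixedField C.bar
  letI : Fintype L := Fintype.ofFinite _
  have hL : 3 < Fintype.card L := by
    rw [← Nat.card_eq_fintype_card]; exact (card_fixed (C := C) hF).symm ▸ hq
  obtain ⟨g, σ, hg⟩ := sl_aut L hL ((e.trans β).trans e.symm)
  obtain ⟨p, hp⟩ := CharP.exists F
  haveI : Fact p.Prime := ⟨CharP.char_is_prime F p⟩
  haveI : CharP L p := (RingHom.charP_iff (L.subtype) Subtype.val_injective p).2 hp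
  obtain ⟨i, hi⟩ : ∃ i, ∀ x : L, σ x = x ^ (p ^ i) := by
    letI := ZMod.algebra L p
    let f : L →ₐ[ZMod p] L :=
      { (σ : L →+* L) with commutes' := fun c =>
          RingHom.congr_fun (RingHom.ext_zmod ((σ : L →+* L).comp (algebraMap (ZMod p) L)) (algebraMap (ZMod p) L)) c }
    obtain ⟨n, hn⟩ := (FiniteField.bijective_frobeniusAlgHom_pow (ZMod p) L).2 f
    refine ⟨n, fun x => ?_⟩
    have := DFunLike.congr_fun hn x
    rw [AlgHom.coe_pow, FiniteField.coe_frobeniusAlgHom, pow_iterate, ZMod.card] at this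
    exact this.symm
  let τ : RingAut F := iterateFrobeniusEquiv F p i
  have hτ : ∀ x : L, τ (x : F) = ((σ x : L) : F) := fun x => by
    rw [hi, SubmonoidClass.coe_pow]; exact iterateFrobeniusEquiv_def F p i _
  let g' : GL (Fin 2) F := Matrix.GeneralLinearGroup.map L.subtype g
  refine ⟨P * g' * (AutPSL.glField τ P)⁻¹, τ, fun X => ?_⟩
  have hA : β X = e (AutPSL.slConj g (AutPSL.slField σ (e.symm X))) := by
    rw [← MulAut.mul_apply, ← hg]; simp
  set A := e.symm X with hA'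
  have hX : X.1.1 = P.1 * A.1.map L.subtype * (P⁻¹).1 := by rw [← he, hA', MulEquiv.apply_symm_apply]
  have hsτ : ∀ M : Matrix (Fin 2) (Fin 2) L, (M.map σ).map L.subtype = (M.map L.subtype).map τ := fun M => by
    ext i j; exact (hτ (M i j)).symm
  rw [hA, he, AutPSL.slConj_val, AutPSL.slField_val, Matrix.map_mul, Matrix.map_mul, hsτ, hX]
  have hm : ∀ M N : Matrix (Fin 2) (Fin 2) F, (M * N).map τ = M.map τ * N.map τ := fun M N =>
    Matrix.map_mul (f := (τ : F →+* F))
  rw [hm, hm]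
  have e1 : (P.1.map τ : Matrix (Fin 2) (Fin 2) F) = (AutPSL.glField τ P).1 := rfl
  have e2 : ((P⁻¹).1.map τ : Matrix (Fin 2) (Fin 2) F) = ((AutPSL.glField τ P)⁻¹).1 := by rw [← map_inv]; rfl
  have e3 : (g.1.map L.subtype : Matrix (Fin 2) (Fin 2) F) = g'.1 := rfl
  have e4 : ((g⁻¹).1.map L.subtype : Matrix (Fin 2) (Fin 2) F) = (g'⁻¹).1 := by
    rw [show g'⁻¹ = Matrix.GeneralLinearGroup.map L.subtype g⁻¹ from (map_inv _ g).symm]; rfl
  rw [e1, e2, e3, e4]
  simp only [_root_.mul_inv_rev, inv_inv, Units.val_mul, Matrix.mul_assoc]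
  rw [← Matrix.mul_assoc ((AutPSL.glField τ P)⁻¹).1 (AutPSL.glField τ P).1, Units.inv_mul, Matrix.one_mul,
    ← Matrix.mul_assoc ((AutPSL.glField τ P)⁻¹).1 (AutPSL.glField τ P).1, Units.inv_mul, Matrix.one_mul]

/-- the diagonal subgroup -/
def dTor : Subgroup ↥(Cfsg.SU 2 F q) where
  carrier := {X | X.1.1 0 1 = 0 ∧ X.1.1 1 0 = 0}
  one_mem' := ⟨rfl, rfl⟩
  mul_mem' := fun {a b} ha hb => ⟨by show (a.1.1 * b.1.1) 0 1 = 0; simp [Matrix.mul_apply, ha.1, hb.1],
    by show (a.1.1 * b.1.1) 1 0 = 0; simp [Matrix.mul_apply, ha.2, hb.2]⟩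
  inv_mem' := fun {a} ha => by
    have : (a⁻¹).1.1 = (a.1.1).adjugate := Matrix.SpecialLinearGroup.coe_inv a.1
    exact ⟨by rw [this, Matrix.adjugate_fin_two]; simp [ha.1], by rw [this, Matrix.adjugate_fin_two]; simp [ha.2]⟩

theorem mem_dTor {X : ↥(Cfsg.SU 2 F q)} : X ∈ dTor ↔ X.1.1 0 1 = 0 ∧ X.1.1 1 0 = 0 := Iff.rfl

include C in
/-- an automorphism keeping the diagonal subgroup is a diagonal conjugate of a field automorphism -/
theorem diag_aut (hF : Fintype.card F = q ^ 2) (hq : 3 < q) (β : MulAut ↥(Cfsg.SU 2 F q))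
    (hβ : ∀ X ∈ dTor, β X ∈ dTor) :
    ∃ (c : F) (σ : RingAut F), c * C.bar c = 1 ∧
      ∀ X, ∀ i j, (β X).1.1 i j = ![1, c] i * σ (X.1.1 i j) * (![1, c] j)⁻¹ := by
  classical
  obtain ⟨h, τ, hh⟩ := su_two_aut C hF hq β
  have heq : ∀ X, (β X).1.1 * h.1 = h.1 * X.1.1.map τ := fun X => by
    rw [hh, Matrix.mul_assoc, Units.inv_mul, Matrix.mul_one]
  obtain ⟨y, hy⟩ := C.exists_sq_ne
  have hy0 : y ≠ 0 := fun e => hy (by rw [e, map_zero])
  have hby : C.bar y ≠ 0 := (map_ne_zero C.bar).2 hy0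
  have hl : y / C.bar y * C.bar (y / C.bar y) = 1 := by
    rw [map_div₀, C.bar_bar, div_mul_div_comm, mul_comm, div_self (mul_ne_zero hby hy0)]
  set l := y / C.bar y with hl'
  have hll : l ≠ C.bar l := fun e => hy (by
    rw [hl', map_div₀, C.bar_bar, div_eq_div_iff hby hy0] at e; linear_combination -e)
  set t := su2 C l 0 (by simpa using hl)
  have ht := hβ t ⟨by simp [t, su2, UCtx.mkSU], by simp [t, su2, UCtx.mkSU]⟩
  have e := fun i j => congrFun (congrFun (heq t) i) j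
  have hτl : τ l ≠ τ (C.bar l) := fun e => hll (τ.injective e)
  have hdet : h.1 0 0 * h.1 1 1 - h.1 0 1 * h.1 1 0 ≠ 0 := by
    rw [← Matrix.det_fin_two]; exact ((Matrix.isUnit_iff_isUnit_det _).1 h.isUnit).ne_zero
  have e00 := e 0 0
  have e01 := e 0 1
  have e10 := e 1 0
  have e11 := e 1 1
  obtain ⟨ht1, ht2⟩ := ht
  have htv : t.1.1 = !![l, 0; 0, C.bar l] := by simp [t, su2, UCtx.mkSU]
  generalize hb : β t = b at e00 e01 e10 e11 ht1 ht2
  simp [Matrix.mul_apply, Fin.sum_univ_two, ht1, ht2, htv] at e00 e01 e10 e11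
  have key : (h.1 0 1 = 0 ∧ h.1 1 0 = 0) ∨ (h.1 0 0 = 0 ∧ h.1 1 1 = 0) := by
    have r0 : h.1 0 0 * h.1 0 1 * (τ l - τ (C.bar l)) = 0 := by
      linear_combination h.1 0 0 * e01 - h.1 0 1 * e00
    have r1 : h.1 1 0 * h.1 1 1 * (τ l - τ (C.bar l)) = 0 := by
      linear_combination h.1 1 0 * e11 - h.1 1 1 * e10
    have d := sub_ne_zero.2 hτl
    rcases mul_eq_zero.1 ((mul_eq_zero.1 r0).resolve_right d) with a | a <;>
      rcases mul_eq_zero.1 ((mul_eq_zero.1 r1).resolve_right d) with b | b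
    · exact absurd (by rw [a, b]; ring) hdet
    · exact Or.inr ⟨a, b⟩
    · exact Or.inl ⟨a, b⟩
    · exact absurd (by rw [a, b]; ring) hdet
  -- the shape of the automorphism
  have hJ : ∀ X : ↥(Cfsg.SU 2 F q), X.1.1 1 1 = C.bar (X.1.1 0 0) ∧ X.1.1 0 1 = -C.bar (X.1.1 1 0) := fun X => by
    obtain ⟨p, r, hpr, rfl⟩ := su2_eq (C := C) X
    simp [su2, UCtx.mkSU]
  obtain ⟨c, σ, hcs⟩ : ∃ (c : F) (σ : RingAut F), c ≠ 0 ∧
      ∀ X, ∀ i j, (β X).1.1 i j = ![1, c] i * σ (X.1.1 i j) * (![1, c] j)⁻¹ := by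
    rcases key with ⟨a, b⟩ | ⟨a, b⟩
    · have h0 : h.1 0 0 ≠ 0 := fun z => hdet (by rw [z, a]; ring)
      have h1 : h.1 1 1 ≠ 0 := fun z => hdet (by rw [z, b]; ring)
      refine ⟨h.1 1 1 / h.1 0 0, τ, div_ne_zero h1 h0, fun X => ?_⟩
      have e := fun i j => congrFun (congrFun (heq X) i) j
      have e00 := e 0 0
      have e01 := e 0 1
      have e10 := e 1 0
      have e11 := e 1 1
      simp [Matrix.mul_apply, Fin.sum_univ_two, a, b] at e00 e01 e10 e11
      intro i j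
      fin_cases i <;> fin_cases j <;> simp <;> (try field_simp)
      · exact mul_right_cancel₀ h0 (by linear_combination e00)
      · linear_combination e01
      · linear_combination e10
      · exact mul_right_cancel₀ h1 (by linear_combination e11)
    · have h0 : h.1 0 1 ≠ 0 := fun z => hdet (by rw [z, a]; ring)
      have h1 : h.1 1 0 ≠ 0 := fun z => hdet (by rw [z, a]; ring)
      refine ⟨-h.1 1 0 / h.1 0 1, τ * C.bar, div_ne_zero (neg_ne_zero.2 h1) h0, fun X => ?_⟩
      have e := fun i j => congrFun (congrFun (heq X) i) j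
      have e00 := e 0 0
      have e01 := e 0 1
      have e10 := e 1 0
      have e11 := e 1 1
      obtain ⟨j1, j2⟩ := hJ X
      simp [Matrix.mul_apply, Fin.sum_univ_two, a, b, j1, j2] at e00 e01 e10 e11
      intro i j
      fin_cases i <;> fin_cases j <;> simp [j1, j2, C.bar_bar] <;> (try field_simp)
      · exact mul_right_cancel₀ h0 (by linear_combination e01)
      · linear_combination e00
      · linear_combination e11
      · exact mul_right_cancel₀ h1 (by linear_combination e10)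
  refine ⟨c, σ, ?_, hcs.2⟩
  obtain ⟨hc0, hcs⟩ := hcs
  set w := su2 C 0 1 (by simp)
  have hw := hcs w
  have h2 := (hJ (β w)).2
  rw [hw 0 1, hw 1 0] at h2
  simp [w, su2, UCtx.mkSU] at h2
  field_simp at h2
  linear_combination -h2

include C in
/-- a diagonal semilinear automorphism extends to dimension three -/
theorem exists_extend_of_diag (β : MulAut ↥(Cfsg.SU 2 F q)) {c : F} {σ : RingAut F} (hc : c * C.bar c = 1)
    (hcs : ∀ X, ∀ i j, (β X).1.1 i j = ![1, c] i * σ (X.1.1 i j) * (![1, c] j)⁻¹) :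
    ∃ α : MulAut ↥(Cfsg.SU 3 F q), (∀ A, α (e0 C A) = e0 C (β A)) ∧
      (e1 C).range.map α.toMonoidHom = (e1 C).range := by
  classical
  have hc0 : c ≠ 0 := left_ne_zero_of_mul_eq_one hc
  let d : Fin 3 → F := ![1, c, 1]
  have hd : ∀ i, d i * C.bar (d i) = 1 := fun i => by fin_cases i <;> simp [d, hc]
  have hd0 : ∀ i, d i ≠ 0 := fun i => left_ne_zero_of_mul_eq_one (hd i)
  let D : GL (Fin 3) F := ⟨Matrix.diagonal d, Matrix.diagonal fun i => (d i)⁻¹,
    by rw [Matrix.diagonal_mul_diagonal]; simp [hd0],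
    by rw [Matrix.diagonal_mul_diagonal]; simp [hd0]⟩
  have hD : D ∈ Cfsg.GU 3 F q := C.mem_gu_iff_mat.2 (by
    show (Matrix.diagonal d)ᵀ * (Matrix.diagonal d).map C.bar = 1
    rw [Matrix.diagonal_transpose, Matrix.diagonal_map (map_zero _), Matrix.diagonal_mul_diagonal]
    simp [hd])
  let α : MulAut ↥(Cfsg.SU 3 F q) := suConj ⟨D, hD⟩ * C.suField σ
  have hα : ∀ Y i j, (α Y).1.1 i j = d i * σ (Y.1.1 i j) * (d j)⁻¹ := fun Y i j => by
    show (Matrix.diagonal d * Y.1.1.map σ * Matrix.diagonal fun i => (d i)⁻¹) i j = _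
    rw [Matrix.mul_diagonal, Matrix.diagonal_mul, Matrix.map_apply]
  refine ⟨α, fun A => Subtype.ext (Subtype.ext (Matrix.ext fun i j => ?_)), ?_⟩
  · rw [hα]
    fin_cases i <;> fin_cases j <;>
      simp [enlarge, inc, Matrix.mul_apply, Fin.sum_univ_two, win, emb_val, d, hcs, Fin.ext_iff, hc0,
        Matrix.one_apply]
  · refine Subgroup.eq_of_le_of_card_ge ?_ (le_of_eq (Subgroup.card_map_of_injective α.injective).symm)
    rintro _ ⟨Y, hY, rfl⟩
    rw [SetLike.mem_coe, mem_e1] at *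
    funext i
    have h0 := congrFun hY i
    simp [Matrix.mulVec_single, sv] at h0
    simp only [MulEquiv.coe_toMonoidHom, sv, Matrix.mulVec_single_one, Matrix.col_apply, hα, h0]
    fin_cases i <;> simp [d]

include C in
/-- extension to dimension three -/
theorem exists_extend (hF : Fintype.card F = q ^ 2) (hq : 3 < q) (β : MulAut ↥(Cfsg.SU 2 F q))
    (hβ : ∀ X ∈ dTor, β X ∈ dTor) :
    ∃ α : MulAut ↥(Cfsg.SU 3 F q), (∀ A, α (e0 C A) = e0 C (β A)) ∧
      (e1 C).range.map α.toMonoidHom = (e1 C).range := by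
  obtain ⟨c, σ, hc, hcs⟩ := diag_aut C hF hq β hβ
  exact exists_extend_of_diag C β hc hcs

end CfsgLib.Phan
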