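import Cfsg.Agent.Lib.Lie.BoundedPres.SU.Pairs
import Cfsg.Prelude.Def_PhanSystems
import Mathlib.LinearAlgebra.Matrix.SchurComplement

/-!
# Unitary groups of sets of coordinates, and the two blocks in dimension three
-/

set_option autoImplicit false
set_option linter.all false

namespace CfsgLib.Phan

open Matrix CfsgLib.SU CfsgLib.Lie.BoundedPres.SUBase CfsgLib.Lie.BoundedPres.SUGraph

universe u

variable {F : Type u} [Field F] [Fintype F] {q m n k : ℕ} (C : UCtx F q)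

/-- the inclusion of coordinates -/
def inc (F : Type u) [Field F] {m n : ℕ} (f : Fin m → Fin n) : Matrix (Fin n) (Fin m) F :=
  Matrix.of fun i j => if i = f j then 1 else 0

theorem inc_tr_inc {f : Fin m → Fin n} (hf : Function.Injective f) :
    (inc F f)ᵀ * inc F f = (1 : Matrix (Fin m) (Fin m) F) := by
  ext i j; simp [inc, Matrix.mul_apply, Matrix.one_apply, hf.eq_iff, eq_comm]

theorem inc_map (f : Fin m → Fin n) : (inc F f).map C.bar = inc F f := by
  ext i j; simp [inc, apply_ite C.bar]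

theorem inc_comp (g : Fin n → Fin k) (f : Fin m → Fin n) : inc F g * inc F f = inc F (g ∘ f) := by
  ext i j; simp [inc, Matrix.mul_apply]

theorem inc_disjoint {f : Fin m → Fin n} {g : Fin k → Fin n} (h : ∀ i j, f i ≠ g j) :
    (inc F f)ᵀ * inc F g = (0 : Matrix (Fin m) (Fin k) F) := by
  ext i j; simp [inc, Matrix.mul_apply, (h i j).symm]

theorem inc_mulVec_sv (f : Fin m → Fin n) (j : Fin m) : inc F f *ᵥ sv j = sv (f j) := by
  ext i; simp [inc, sv, Matrix.mulVec_single, Pi.single_apply]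

theorem inc_tr_mulVec_sv {f : Fin m → Fin n} {l : Fin n} (h : ∀ j, f j ≠ l) :
    (inc F f)ᵀ *ᵥ sv l = (0 : Fin m → F) := by
  ext i; simp [inc, sv, Matrix.mulVec_single, Ne.symm (h i)]

/-- the enlarged matrix -/
def enlarge (f : Fin m → Fin n) (A : Matrix (Fin m) (Fin m) F) : Matrix (Fin n) (Fin n) F :=
  1 + inc F f * (A - 1) * (inc F f)ᵀ

theorem enlarge_mul {f : Fin m → Fin n} (hf : Function.Injective f) (A B : Matrix (Fin m) (Fin m) F) :
    enlarge f A * enlarge f B = enlarge f (A * B) := by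
  have h : inc F f * (A - 1) * (inc F f)ᵀ * (inc F f * (B - 1) * (inc F f)ᵀ) =
      inc F f * ((A - 1) * (B - 1)) * (inc F f)ᵀ := by
    simp only [Matrix.mul_assoc]
    rw [← Matrix.mul_assoc (inc F f)ᵀ (inc F f), inc_tr_inc hf, Matrix.one_mul]
  rw [enlarge, enlarge, enlarge, Matrix.add_mul, Matrix.one_mul, Matrix.mul_add, Matrix.mul_one, h,
    show A * B - 1 = (A - 1) + (B - 1) + (A - 1) * (B - 1) by noncomm_ring]
  simp only [Matrix.mul_add, Matrix.add_mul]
  abel

theorem enlarge_one (f : Fin m → Fin n) : enlarge f (1 : Matrix (Fin m) (Fin m) F) = 1 := by simp [enlarge]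

theorem enlarge_det {f : Fin m → Fin n} (hf : Function.Injective f) (A : Matrix (Fin m) (Fin m) F) :
    (enlarge f A).det = A.det := by
  rw [enlarge, Matrix.mul_assoc, Matrix.det_one_add_mul_comm, Matrix.mul_assoc, inc_tr_inc hf, Matrix.mul_one,
    add_sub_cancel]

theorem enlarge_transpose (f : Fin m → Fin n) (A : Matrix (Fin m) (Fin m) F) : (enlarge f A)ᵀ = enlarge f Aᵀ := by
  simp [enlarge, Matrix.transpose_add, Matrix.transpose_mul, Matrix.mul_assoc]

theorem enlarge_bar (f : Fin m → Fin n) (A : Matrix (Fin m) (Fin m) F) :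
    (enlarge f A).map C.bar = enlarge f (A.map C.bar) := by
  have e : ∀ {a b : ℕ} (M : Matrix (Fin a) (Fin b) F), M.map C.bar = M.map (C.bar : F →+* F) := fun _ => rfl
  rw [enlarge, enlarge, e, Matrix.map_add _ (map_add _), Matrix.map_one _ (map_zero _) (map_one _), Matrix.map_mul,
    Matrix.map_mul, Matrix.map_sub _ (map_sub _), Matrix.map_one _ (map_zero _) (map_one _)]
  simp only [← e, Matrix.transpose_map, inc_map]

include C in
theorem su_mat_iff (X : Matrix.SpecialLinearGroup (Fin n) F) :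
    X ∈ Cfsg.SU n F q ↔ X.1ᵀ * X.1.map C.bar = 1 :=
  C.mem_gu_iff_mat (g := Matrix.SpecialLinearGroup.toGL X)

/-- the group of the coordinates in the image of `f` -/
def emb {m n : ℕ} (f : Fin m → Fin n) (hf : Function.Injective f) : ↥(Cfsg.SU m F q) →* ↥(Cfsg.SU n F q) where
  toFun A := ⟨⟨enlarge f A.1.1, by rw [enlarge_det hf, A.1.2]⟩, (su_mat_iff C _).2 (by
    show (enlarge f A.1.1)ᵀ * (enlarge f A.1.1).map C.bar = 1
    rw [enlarge_transpose, enlarge_bar, enlarge_mul hf, (su_mat_iff C A.1).1 A.2, enlarge_one])⟩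
  map_one' := Subtype.ext (Subtype.ext (enlarge_one f))
  map_mul' A B := Subtype.ext (Subtype.ext (enlarge_mul hf A.1.1 B.1.1).symm)

variable {C}

theorem emb_val {f : Fin m → Fin n} {hf : Function.Injective f} (A : ↥(Cfsg.SU m F q)) :
    (emb C f hf A).1.1 = enlarge f A.1.1 := rfl

theorem emb_sv {f : Fin m → Fin n} {hf : Function.Injective f} (A : ↥(Cfsg.SU m F q)) (j : Fin m) :
    (emb C f hf A).1.1 *ᵥ sv (f j) = inc F f *ᵥ (A.1.1 *ᵥ sv j) := by
  rw [emb_val, enlarge, Matrix.add_mulVec, Matrix.one_mulVec, ← inc_mulVec_sv, Matrix.mulVec_mulVec,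
    Matrix.mul_assoc _ _ᵀ, inc_tr_inc hf, Matrix.mul_one, ← Matrix.mulVec_mulVec, Matrix.sub_mulVec,
    Matrix.one_mulVec, Matrix.mulVec_sub]
  abel

theorem emb_fix {f : Fin m → Fin n} {hf : Function.Injective f} (A : ↥(Cfsg.SU m F q)) {l : Fin n}
    (h : ∀ j, f j ≠ l) : (emb C f hf A).1.1 *ᵥ sv l = sv l := by
  rw [emb_val, enlarge, Matrix.add_mulVec, Matrix.one_mulVec, ← Matrix.mulVec_mulVec, inc_tr_mulVec_sv h,
    Matrix.mulVec_zero, add_zero]

theorem emb_injective {f : Fin m → Fin n} {hf : Function.Injective f} : Function.Injective (emb C f hf) := by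
  intro A B h
  have h1 : enlarge f A.1.1 = enlarge f B.1.1 := congrArg (fun X : ↥(Cfsg.SU n F q) => X.1.1) h
  have key : ∀ M : Matrix (Fin m) (Fin m) F, (inc F f)ᵀ * enlarge f M * inc F f = M := fun M => by
    rw [enlarge, Matrix.mul_add, Matrix.add_mul, Matrix.mul_one, inc_tr_inc hf]
    simp only [Matrix.mul_assoc]
    rw [inc_tr_inc hf, Matrix.mul_one, ← Matrix.mul_assoc, inc_tr_inc hf, Matrix.one_mul, add_sub_cancel]
  exact Subtype.ext (Subtype.ext (by rw [← key A.1.1, ← key B.1.1, h1]))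

theorem emb_comp {f : Fin m → Fin n} {hf : Function.Injective f} {g : Fin n → Fin k} {hg : Function.Injective g}
    (A : ↥(Cfsg.SU m F q)) : emb C g hg (emb C f hf A) = emb C (g ∘ f) (hg.comp hf) A := by
  refine Subtype.ext (Subtype.ext ?_)
  show enlarge g (enlarge f A.1.1) = enlarge (g ∘ f) A.1.1
  rw [enlarge, enlarge, enlarge, add_sub_cancel_left, ← inc_comp, Matrix.transpose_mul]
  simp only [Matrix.mul_assoc]

theorem emb_congr {f g : Fin m → Fin n} {hf : Function.Injective f} {hg : Function.Injective g} (h : f = g)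
    (A : ↥(Cfsg.SU m F q)) : emb C f hf A = emb C g hg A := by subst h; rfl

theorem emb_commute {f : Fin m → Fin n} {hf : Function.Injective f} {g : Fin k → Fin n}
    {hg : Function.Injective g} (h : ∀ i j, f i ≠ g j) (A : ↥(Cfsg.SU m F q)) (B : ↥(Cfsg.SU k F q)) :
    Commute (emb C f hf A) (emb C g hg B) := by
  refine Subtype.ext (Subtype.ext ?_)
  show enlarge f A.1.1 * enlarge g B.1.1 = enlarge g B.1.1 * enlarge f A.1.1
  have h1 : ∀ {a b : ℕ} {f' : Fin a → Fin n} {g' : Fin b → Fin n}, (∀ i j, f' i ≠ g' j) →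
      ∀ (X : Matrix (Fin a) (Fin a) F) (Y : Matrix (Fin b) (Fin b) F),
        inc F f' * X * (inc F f')ᵀ * (inc F g' * Y * (inc F g')ᵀ) = 0 := fun hd X Y => by
    simp only [Matrix.mul_assoc]
    rw [← Matrix.mul_assoc (inc F _)ᵀ (inc F _), inc_disjoint hd]
    simp
  simp only [enlarge, Matrix.add_mul, Matrix.mul_add, Matrix.one_mul, Matrix.mul_one, h1 h,
    h1 (fun i j => (h j i).symm)]
  abel

/-- the elements fixing the other coordinate vectors -/
theorem mem_range_emb {f : Fin m → Fin n} {hf : Function.Injective f} {X : ↥(Cfsg.SU n F q)}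
    (h : ∀ l, (∀ j, f j ≠ l) → X.1.1 *ᵥ sv l = sv l) : X ∈ (emb C f hf).range := by
  classical
  set A := (inc F f)ᵀ * X.1.1 * inc F f with hA
  have hsv : ∀ (M : Matrix (Fin n) (Fin n) F) i l, (M *ᵥ sv l) i = M i l := fun M i l => by
    simp [sv, Matrix.mulVec_single]
  have hcol : ∀ i l, (∀ j, f j ≠ l) → X.1.1 i l = if i = l then 1 else 0 := fun i l hl => by
    rw [← hsv X.1.1 i l, h l hl]; simp [sv, Pi.single_apply]
  have hrow : ∀ i l, (∀ j, f j ≠ i) → X.1.1 i l = if i = l then 1 else 0 := fun i l hi => by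
    have h1 := C.form_su X (sv l) (sv i)
    rw [h i hi, form_sv] at h1
    have h2 : ∀ v : Fin n → F, C.form v (sv i) = v i := fun v => by
      simp [UCtx.form, sv, Pi.single_apply, apply_ite C.bar]
    rw [h2, hsv] at h1
    rw [h1]
    simp [eq_comm]
  have hAe : ∀ a b, A a b = X.1.1 (f a) (f b) := fun a b => by
    simp [hA, inc, Matrix.mul_apply]
  have hX : X.1.1 = enlarge f A := by
    ext i l
    by_cases hi : ∀ j, f j ≠ i
    · rw [hrow i l hi, enlarge]
      simp [Matrix.mul_apply, inc, fun j => (hi j).symm, Matrix.one_apply]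
    push Not at hi
    obtain ⟨a, rfl⟩ := hi
    by_cases hl : ∀ j, f j ≠ l
    · rw [hcol _ l hl, enlarge]
      simp [Matrix.mul_apply, inc, fun j => (hl j).symm, Matrix.one_apply]
    push Not at hl
    obtain ⟨b, rfl⟩ := hl
    rw [enlarge]
    simp [Matrix.mul_apply, inc, hf.eq_iff, hAe, Matrix.one_apply, hA ▸ hAe a b]
  have hdet : A.det = 1 := by rw [← enlarge_det hf, ← hX, X.1.2]
  refine ⟨⟨⟨A, hdet⟩, (su_mat_iff C _).2 ?_⟩, Subtype.ext (Subtype.ext hX.symm)⟩
  have h1 := (su_mat_iff C X.1).1 X.2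
  rw [hX, enlarge_transpose, enlarge_bar, enlarge_mul hf] at h1
  show Aᵀ * A.map C.bar = 1
  ext a b
  have h2 := congrFun (congrFun h1 (f a)) (f b)
  simpa [enlarge, Matrix.mul_apply, inc, hf.eq_iff, Matrix.one_apply] using h2

/-- consecutive coordinates -/
def win (m i : ℕ) (h : i + m ≤ n) : Fin m → Fin n := fun j => ⟨i + j.val, by omega⟩

theorem win_inj {i : ℕ} {h : i + m ≤ n} : Function.Injective (win (n := n) m i h) := fun a b e => by
  simpa [win, Fin.ext_iff] using e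

theorem win_comp {i j : ℕ} {h : i + k ≤ n} {h' : j + m ≤ k} :
    win (n := n) k i h ∘ win (n := k) m j h' = win m (i + j) (by omega) := by
  funext a; simp [win, Fin.ext_iff, add_assoc]

variable (C) in
/-- the unitary group of the coordinates `i, …, i + m - 1` -/
abbrev embW (n m i : ℕ) (h : i + m ≤ n) : ↥(Cfsg.SU m F q) →* ↥(Cfsg.SU n F q) := emb C (win m i h) win_inj

theorem embW_comp {i j : ℕ} {h : i + k ≤ n} {h' : j + m ≤ k} (A : ↥(Cfsg.SU m F q)) :
    embW C n k i h (embW C k m j h' A) = embW C n m (i + j) (by omega) A := by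
  rw [emb_comp]; exact emb_congr win_comp A

theorem embW_commute {i j : ℕ} {h : i + m ≤ n} {h' : j + k ≤ n} (hd : i + m ≤ j) (A : ↥(Cfsg.SU m F q))
    (B : ↥(Cfsg.SU k F q)) : Commute (embW C n m i h A) (embW C n k j h' B) :=
  emb_commute (fun a b => by simp [win, Fin.ext_iff]; omega) A B

theorem embW_range {i : ℕ} {h : i + m ≤ n} {X : ↥(Cfsg.SU n F q)} :
    X ∈ (embW C n m i h).range ↔ ∀ l : Fin n, (l.val < i ∨ i + m ≤ l.val) → X.1.1 *ᵥ sv l = sv l := by
  refine ⟨fun ⟨A, hA⟩ l hl => hA ▸ emb_fix A (fun j e => by subst e; simp [win] at hl; omega),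
    fun hX => mem_range_emb fun l hl => hX l ?_⟩
  by_contra hcon
  push Not at hcon
  exact hl ⟨l.val - i, by omega⟩ (Fin.ext (by simp [win]; omega))

theorem embW_zero_range {i : ℕ} {h : 0 + m ≤ n} : (embW C n m 0 h).range = fixFrom m := by
  ext X
  rw [embW_range, mem_fixFrom]
  exact ⟨fun hX l hl => hX l (Or.inr (by omega)), fun hX l hl => hX l (by omega)⟩

/-- the block subgroup -/
theorem suBlock_eq {s : Set (Fin n)} {f : Fin m → Fin n} {hf : Function.Injective f} (hs : Set.range f = s) :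
    Cfsg.suBlock n F q s = (emb C f hf).range := by
  classical
  subst hs
  refine le_antisymm ((Subgroup.closure_le _).2 fun A hA => ?_) ?_
  · refine mem_range_emb fun l hl => ?_
    obtain ⟨h1, h2⟩ := hA l (by rintro ⟨j, hj⟩; exact hl j hj)
    funext i
    rw [sv, Matrix.mulVec_single_one, Pi.single_apply, Matrix.col_apply]
    split_ifs with e
    · rw [e]; exact h1
    · exact (h2 i e).2
  · rintro _ ⟨A, rfl⟩
    refine Subgroup.subset_closure fun l hl => ?_
    have hl' : ∀ j, f j ≠ l := fun j e => hl ⟨j, e⟩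
    rw [emb_val]
    refine ⟨?_, fun i hi => ⟨?_, ?_⟩⟩
    · simp [enlarge, Matrix.mul_apply, inc, fun j => (hl' j).symm, Matrix.one_apply]
    all_goals simp [enlarge, Matrix.mul_apply, inc, fun j => (hl' j).symm, Matrix.one_apply, hi, Ne.symm hi]

variable (C) in
/-- a matrix of size two from its first column -/
def su2 (p r : F) (h : p * C.bar p + r * C.bar r = 1) : ↥(Cfsg.SU 2 F q) :=
  C.mkSU !![p, -C.bar r; r, C.bar p] (by rw [Matrix.det_fin_two_of]; linear_combination h) fun u v => by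
    simp only [UCtx.form, Fin.sum_univ_two, Matrix.mulVec, dotProduct, Matrix.of_apply, Matrix.cons_val_zero,
      Matrix.cons_val_one, Matrix.cons_val', Matrix.cons_val_fin_one, map_add, map_mul, map_neg, C.bar_bar]
    linear_combination (u 0 * C.bar (v 0) + u 1 * C.bar (v 1)) * h

theorem su2_col0 {p r : F} {h : p * C.bar p + r * C.bar r = 1} :
    (su2 C p r h).1.1 *ᵥ sv 0 = p • sv 0 + r • sv 1 := by
  funext i; fin_cases i <;> simp [su2, UCtx.mkSU, sv, Matrix.mulVec_single]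

theorem su2_col1 {p r : F} {h : p * C.bar p + r * C.bar r = 1} :
    (su2 C p r h).1.1 *ᵥ sv 1 = -C.bar r • sv 0 + C.bar p • sv 1 := by
  funext i; fin_cases i <;> simp [su2, UCtx.mkSU, sv, Matrix.mulVec_single]

/-- every matrix of size two is of that form -/
theorem su2_eq (X : ↥(Cfsg.SU 2 F q)) : ∃ p r, ∃ h : p * C.bar p + r * C.bar r = 1, X = su2 C p r h := by
  have h0 := C.form_su X (sv 0) (sv 0)
  have h10 := C.form_su X (sv 1) (sv 0)
  have hd : X.1.1 0 0 * X.1.1 1 1 - X.1.1 0 1 * X.1.1 1 0 = 1 := by rw [← Matrix.det_fin_two]; exact X.1.2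
  simp [UCtx.form, Fin.sum_univ_two, Matrix.mulVec_single, sv] at h0 h10
  refine ⟨X.1.1 0 0, X.1.1 1 0, h0, Subtype.ext (Subtype.ext ?_)⟩
  ext i j
  fin_cases i <;> fin_cases j <;> simp [su2, UCtx.mkSU]
  · linear_combination (-X.1.1 0 1) * h0 + X.1.1 0 0 * h10 - C.bar (X.1.1 1 0) * hd
  · linear_combination (-X.1.1 1 1) * h0 + X.1.1 1 0 * h10 + C.bar (X.1.1 0 0) * hd

variable (C) in
/-- the block on the first two coordinates in dimension three -/
abbrev e0 : ↥(Cfsg.SU 2 F q) →* ↥(Cfsg.SU 3 F q) := embW C 3 2 0 (by norm_num)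

variable (C) in
/-- the block on the last two coordinates in dimension three -/
abbrev e1 : ↥(Cfsg.SU 2 F q) →* ↥(Cfsg.SU 3 F q) := embW C 3 2 1 (by norm_num)

theorem mem_e0 {X : ↥(Cfsg.SU 3 F q)} : X ∈ (e0 C).range ↔ X.1.1 *ᵥ sv 2 = sv 2 := by
  rw [embW_range]
  refine ⟨fun h => h 2 (Or.inr (by simp)), fun h l hl => ?_⟩
  have : l = 2 := by fin_cases l <;> simp at hl ⊢
  exact this ▸ h

theorem mem_e1 {X : ↥(Cfsg.SU 3 F q)} : X ∈ (e1 C).range ↔ X.1.1 *ᵥ sv 0 = sv 0 := by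
  rw [embW_range]
  refine ⟨fun h => h 0 (Or.inl (by simp)), fun h l hl => ?_⟩
  have : l = 0 := by fin_cases l <;> simp at hl ⊢
  exact this ▸ h

theorem suBlock_01 : Cfsg.suBlock 3 F q {0, 1} = (e0 C).range := by
  refine suBlock_eq (Set.ext fun l => ⟨?_, ?_⟩)
  · rintro ⟨j, rfl⟩
    fin_cases j
    exacts [Or.inl rfl, Or.inr rfl]
  · rintro (rfl | rfl)
    exacts [⟨0, rfl⟩, ⟨1, rfl⟩]

theorem suBlock_12 : Cfsg.suBlock 3 F q {1, 2} = (e1 C).range := by
  refine suBlock_eq (Set.ext fun l => ⟨?_, ?_⟩)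
  · rintro ⟨j, rfl⟩
    fin_cases j
    exacts [Or.inl rfl, Or.inr rfl]
  · rintro (rfl | rfl)
    exacts [⟨0, rfl⟩, ⟨1, rfl⟩]

/-- the two blocks generate -/
theorem closure_blocks (hq : ∃ s : F, C.bar s = s ∧ s ≠ 0 ∧ s ≠ 1) : (e0 C).range ⊔ (e1 C).range = ⊤ := by
  set P := (e0 C).range ⊔ (e1 C).range
  refine eq_top_iff.2 (fixFrom_top (n := 3) (F := F) (q := q) ▸
    fixFrom_le_of_pairs C hq P 3 (by norm_num) le_rfl fun a b hab _ _ X hX => ?_)
  set W := e1 C (su2 C 0 1 (by simp))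
  have hW2 : W.1.1 *ᵥ sv 2 = -(sv 1 : Fin 3 → F) := by
    rw [show (2 : Fin 3) = win (n := 3) 2 1 (by norm_num) 1 from rfl, emb_sv, su2_col1]
    simp [Matrix.mulVec_neg, inc_mulVec_sv]
    rfl
  have hW : W ∈ P := Subgroup.mem_sup_right ⟨_, rfl⟩
  have h0 : X.1.1 *ᵥ sv 2 = sv 2 → X ∈ P := fun h => Subgroup.mem_sup_left (mem_e0.2 h)
  have h1 : X.1.1 *ᵥ sv 0 = sv 0 → X ∈ P := fun h => Subgroup.mem_sup_right (mem_e1.2 h)
  have h2 : X.1.1 *ᵥ sv 1 = sv 1 → X ∈ P := fun h => by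
    have hm : W⁻¹ * X * W ∈ (e0 C).range := mem_e0.2 (by
      rw [suMat_mulVec_mul, suMat_mulVec_mul, hW2, Matrix.mulVec_neg, h, ← hW2, su_inv_mulVec])
    have := mul_mem (mul_mem hW (Subgroup.mem_sup_left hm : W⁻¹ * X * W ∈ P)) (inv_mem hW)
    rwa [show W * (W⁻¹ * X * W) * W⁻¹ = X by group] at this
  rcases (show ∀ a b : Fin 3, a ≠ b → ((2 : Fin 3) ≠ a ∧ (2 : Fin 3) ≠ b) ∨ ((0 : Fin 3) ≠ a ∧ (0 : Fin 3) ≠ b) ∨
    ((1 : Fin 3) ≠ a ∧ (1 : Fin 3) ≠ b) by decide) a b hab with h | h | h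
  exacts [h0 (hX _ h.1 h.2), h1 (hX _ h.1 h.2), h2 (hX _ h.1 h.2)]

/-- a vector of norm one reached through the two blocks -/
theorem exists_reach {v : Fin 3 → F} (hv : C.form v v = 1) (h : v 2 * C.bar (v 2) ≠ 1) :
    ∃ B A, (e0 C B * e1 C A).1.1 *ᵥ sv 2 = v := by
  have hv' : v 0 * C.bar (v 0) + v 1 * C.bar (v 1) + v 2 * C.bar (v 2) = 1 := by
    simpa [UCtx.form, Fin.sum_univ_three] using hv
  obtain ⟨d, hd⟩ := C.exists_norm (c := 1 - v 2 * C.bar (v 2)) (by rw [map_sub, map_one, C.norm_fixed])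
  have hd0 : d ≠ 0 := fun e => sub_ne_zero.2 h.symm (by rw [← hd, e, zero_mul])
  have hA : C.bar (v 2) * C.bar (C.bar (v 2)) + (-C.bar d) * C.bar (-C.bar d) = 1 := by
    simp only [map_neg, C.bar_bar]; linear_combination hd
  have hB : C.bar (v 1 / d) * C.bar (C.bar (v 1 / d)) + -C.bar (v 0 / d) * C.bar (-C.bar (v 0 / d)) = 1 := by
    have hbd : C.bar d ≠ 0 := (map_ne_zero C.bar).2 hd0
    simp only [map_neg, C.bar_bar, map_div₀]
    field_simp
    linear_combination hv' - hd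
  refine ⟨su2 C _ _ hB, su2 C _ _ hA, ?_⟩
  rw [suMat_mulVec_mul, show (sv 2 : Fin 3 → F) = sv (win (n := 3) 2 1 (by norm_num) 1) from rfl, emb_sv, su2_col1]
  simp only [Matrix.mulVec_add, Matrix.mulVec_smul, inc_mulVec_sv, neg_neg, map_neg, C.bar_bar]
  rw [show win (n := 3) 2 1 (by norm_num) 0 = win (n := 3) 2 0 (by norm_num) 1 from rfl, emb_sv, su2_col1,
    show win (n := 3) 2 1 (by norm_num) 1 = (2 : Fin 3) from rfl, emb_fix _ (fun j => by fin_cases j <;> decide)]
  simp only [Matrix.mulVec_add, Matrix.mulVec_smul, inc_mulVec_sv, neg_neg, map_neg, C.bar_bar]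
  funext i
  fin_cases i <;> simp [win, sv, Pi.single_apply, Fin.ext_iff] <;> field_simp

/-- decomposition away from the last coordinate vector -/
theorem exists_decomp (E : ↥(Cfsg.SU 3 F q))
    (h : (E.1.1 *ᵥ sv 2) 2 * C.bar ((E.1.1 *ᵥ sv 2) 2) ≠ 1) :
    ∃ B A B', E = e0 C B * e1 C A * e0 C B' := by
  obtain ⟨B, A, hBA⟩ := exists_reach (C := C) (v := E.1.1 *ᵥ sv 2) (by rw [C.form_su, form_sv, if_pos rfl]) h
  obtain ⟨B', hB'⟩ : (e0 C B * e1 C A)⁻¹ * E ∈ (e0 C).range :=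
    mem_e0.2 (by rw [suMat_mulVec_mul, ← hBA, su_inv_mulVec])
  exact ⟨B, A, B', by rw [hB', mul_inv_cancel_left]⟩

end CfsgLib.Phan
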