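import Cfsg.Agent.Lib.Phan.Amalgam

/-!
# Phan systems give images of unitary groups
-/

set_option autoImplicit false
set_option linter.all false

namespace CfsgLib.Phan

open Matrix CfsgLib.SU CfsgLib.Lie.BoundedPres.SUBase CfsgLib.Lie.BoundedPres.SUGraph

universe u

variable {F : Type u} [Field F] [Fintype F] {q N : ℕ} {C : UCtx F q} {G : Type*} [Group G]

theorem embW_congr {m n i j : ℕ} {h : i + m ≤ n} {h' : j + m ≤ n} (e : i = j) (A : ↥(Cfsg.SU m F q)) :
    embW C n m i h A = embW C n m j h' A := by subst e; rfl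

theorem inc_apply {m n : ℕ} {f : Fin m → Fin n} (hf : Function.Injective f) (u : Fin m → F) (j : Fin m) :
    (inc F f *ᵥ u) (f j) = u j := by
  simp [inc, Matrix.mulVec, dotProduct, hf.eq_iff]

theorem inc_eq_sv {m n : ℕ} {f : Fin m → Fin n} (hf : Function.Injective f) {u : Fin m → F} {j : Fin m}
    (h : inc F f *ᵥ u = sv (f j)) : u = sv j := by
  rw [← inc_mulVec_sv] at h
  have := congrArg ((inc F f)ᵀ *ᵥ ·) h
  simpa [Matrix.mulVec_mulVec, inc_tr_inc hf] using this

theorem form_sv_right {n : ℕ} (v : Fin n → F) (i : Fin n) : C.form v (sv i) = v i := by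
  simp [UCtx.form, sv, Pi.single_apply, apply_ite C.bar]

theorem col_norm (A : ↥(Cfsg.SU 2 F q)) (i : Fin 2) :
    (A.1.1 *ᵥ sv i) 0 * C.bar ((A.1.1 *ᵥ sv i) 0) + (A.1.1 *ᵥ sv i) 1 * C.bar ((A.1.1 *ᵥ sv i) 1) = 1 := by
  have h := C.form_su A (sv i) (sv i)
  rw [form_sv, if_pos rfl] at h
  generalize A.1.1 *ᵥ sv i = v at h
  simpa [UCtx.form, Fin.sum_univ_two] using h

theorem li_pair {n : ℕ} {u v : USph C n} (h : NonDeg u v) : LinearIndependent F ![u.1, v.1] := by
  rw [Fintype.linearIndependent_iff]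
  intro c hc
  have h1 := congrArg (fun z => C.form z u.1) hc
  have h2 := congrArg (fun z => C.form z v.1) hc
  simp [Fin.sum_univ_two, C.form_add_left, C.form_smul_left, C.form_zero_left, u.2, v.2] at h1 h2
  have hne : (1 : F) - C.form v.1 u.1 * C.bar (C.form v.1 u.1) ≠ 0 := sub_ne_zero.2 (Ne.symm h)
  rw [C.bar_form] at hne
  have c1 : c 1 = 0 := by
    have : c 1 * (1 - C.form v.1 u.1 * C.form u.1 v.1) = 0 := by linear_combination h2 - C.form u.1 v.1 * h1
    exact (mul_eq_zero.1 this).resolve_right hne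
  exact Fin.forall_fin_two.2 ⟨by simpa [c1] using h1, c1⟩

variable (S : Sys C N G)

/-- a rank two piece of the covering group -/
def pair (j : ℕ) (h : j + 3 ≤ N) : ↥(Cfsg.SU 3 F q) →* ↥(Cfsg.SU N F q) × G :=
  (embW C N 3 j h).prod (S.φ j)

/-- a rank one piece of the covering group -/
def bl (j : ℕ) (h : j + 2 ≤ N) : ↥(Cfsg.SU 2 F q) →* ↥(Cfsg.SU N F q) × G :=
  (embW C N 2 j h).prod (S.ψ j)

theorem pair_e0 (j : ℕ) (h : j + 3 ≤ N) (A : ↥(Cfsg.SU 2 F q)) :
    pair S j h (e0 C A) = bl S j (by omega) A :=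
  Prod.ext (embW_comp A) (S.left j h A)

theorem pair_e1 (j : ℕ) (h : j + 3 ≤ N) (A : ↥(Cfsg.SU 2 F q)) :
    pair S j h (e1 C A) = bl S (j + 1) (by omega) A :=
  Prod.ext (embW_comp A) (S.right j h A)

theorem bl_commute {i j : ℕ} (hij : i + 2 ≤ j) (hi : i + 2 ≤ N) (hj : j + 2 ≤ N)
    (A B : ↥(Cfsg.SU 2 F q)) : Commute (bl S i hi A) (bl S j hj B) :=
  Prod.ext (embW_commute hij A B).eq (S.comm i j hij hj A B).eq

/-- the covering group of the first `k` coordinates -/
def gam (k : ℕ) : Subgroup (↥(Cfsg.SU N F q) × G) :=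
  ⨆ (j : ℕ) (_ : j + 2 ≤ k) (hN : j + 2 ≤ N), (bl S j hN).range

theorem bl_mem {j k : ℕ} (h : j + 2 ≤ k) (hN : j + 2 ≤ N) (A : ↥(Cfsg.SU 2 F q)) : bl S j hN A ∈ gam S k :=
  Subgroup.mem_iSup_of_mem j (Subgroup.mem_iSup_of_mem h (Subgroup.mem_iSup_of_mem hN ⟨A, rfl⟩))

theorem gam_mono {j k : ℕ} (h : j ≤ k) : gam S j ≤ gam S k :=
  iSup_le fun i => iSup_le fun hi => iSup_le fun hN => fun x ⟨A, hA⟩ => hA ▸ bl_mem S (hi.trans h) hN A

theorem pair_mem (hq : ∃ s : F, C.bar s = s ∧ s ≠ 0 ∧ s ≠ 1) {j k : ℕ} (h : j + 3 ≤ k) (hN : j + 3 ≤ N)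
    (X : ↥(Cfsg.SU 3 F q)) : pair S j hN X ∈ gam S k := by
  have hle : (e0 C).range ⊔ (e1 C).range ≤ (gam S k).comap (pair S j hN) := sup_le
    (fun x ⟨A, hA⟩ => hA ▸ Subgroup.mem_comap.2 (pair_e0 S j hN A ▸ bl_mem S (by omega) _ A))
    (fun x ⟨A, hA⟩ => hA ▸ Subgroup.mem_comap.2 (pair_e1 S j hN A ▸ bl_mem S (by omega) _ A))
  exact hle ((closure_blocks (C := C) hq).ge (Subgroup.mem_top X))

theorem gam_commute {m j : ℕ} (hmj : m ≤ j) (hj : j + 2 ≤ N) {x : ↥(Cfsg.SU N F q) × G} (hx : x ∈ gam S m)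
    (B : ↥(Cfsg.SU 2 F q)) : Commute x (bl S j hj B) := by
  have hle : gam S m ≤ Subgroup.centralizer {bl S j hj B} := iSup_le fun i => iSup_le fun hi => iSup_le fun hN =>
    fun y ⟨A, hA⟩ => hA ▸ Subgroup.mem_centralizer_singleton_iff.2 (bl_commute S (by omega) hN hj A B).eq
  exact Subgroup.mem_centralizer_singleton_iff.1 (hle hx)

/-- the covering group of the first `k` coordinates maps isomorphically -/
def Good (k : ℕ) : Prop :=
  Set.InjOn (MonoidHom.fst ↥(Cfsg.SU N F q) G) (gam S k) ∧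
    (gam S k).map (MonoidHom.fst ↥(Cfsg.SU N F q) G) = fixFrom k

theorem good_base (hq : ∃ s : F, C.bar s = s ∧ s ≠ 0 ∧ s ≠ 1) (hN : 3 ≤ N) : Good S 2 ∧ Good S 3 := by
  have h2 : gam S 2 = (bl S 0 (by omega)).range := by
    refine le_antisymm (iSup_le fun i => iSup_le fun hi => iSup_le fun hN => ?_) fun x ⟨A, hA⟩ =>
      hA ▸ bl_mem S le_rfl _ A
    obtain rfl : i = 0 := by omega
    exact le_rfl
  have h3 : gam S 3 = (pair S 0 (by omega)).range := by
    refine le_antisymm (iSup_le fun i => iSup_le fun hi => iSup_le fun hN' => ?_) fun x ⟨A, hA⟩ =>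
      hA ▸ pair_mem S hq le_rfl _ A
    rintro _ ⟨A, rfl⟩
    obtain rfl | rfl : i = 0 ∨ i = 1 := by omega
    · exact ⟨_, pair_e0 S 0 (by omega) A⟩
    · exact ⟨_, pair_e1 S 0 (by omega) A⟩
  constructor
  · refine ⟨?_, ?_⟩
    · rw [h2]
      rintro _ ⟨A, rfl⟩ _ ⟨B, rfl⟩ e
      exact congrArg _ (emb_injective (C := C) (hf := win_inj) e)
    · rw [h2, ← MonoidHom.range_comp]
      exact embW_zero_range (C := C) (i := 0)
  · refine ⟨?_, ?_⟩
    · rw [h3]
      rintro _ ⟨A, rfl⟩ _ ⟨B, rfl⟩ e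
      exact congrArg _ (emb_injective (C := C) (hf := win_inj) e)
    · rw [h3, ← MonoidHom.range_comp]
      exact embW_zero_range (C := C) (i := 0)

set_option maxHeartbeats 1600000 in
theorem good_step (hr : SphereGraph.Room C) {m : ℕ} (hm : 1 ≤ m) (hN : m + 3 ≤ N) (g2 : Good S (m + 2))
    (g1 : Good S (m + 1)) : Good S (m + 3) := by
  classical
  have hq : ∃ s : F, C.bar s = s ∧ s ≠ 0 ∧ s ≠ 1 := by
    obtain ⟨s, a, b, c, -⟩ := hr 1 1
    exact ⟨s, a, b, c⟩
  set K := gam S (m + 3) with hK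
  let ι := embW C N (m + 3) 0 (by omega)
  have hι : ι.range = fixFrom (m + 3) := embW_zero_range (i := 0)
  have hKle : ∀ x ∈ K, x.1 ∈ ι.range := by
    have : K ≤ ι.range.comap (MonoidHom.fst _ G) := iSup_le fun i => iSup_le fun hi => iSup_le fun hN' =>
      fun x ⟨A, hA⟩ => hA ▸ ⟨embW C (m + 3) 2 i (by omega) A, by
        rw [embW_comp]; exact embW_congr (Nat.zero_add i) A⟩
    exact fun x hx => this hx
  let π : ↥K →* ↥(Cfsg.SU (m + 3) F q) :=
    (MonoidHom.ofInjective (emb_injective (f := win (n := N) (m + 3) 0 (by omega)))).symm.toMonoidHom.comp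
      (((MonoidHom.fst _ G).comp K.subtype).codRestrict ι.range fun x => hKle x.1 x.2)
  have hπ : ∀ γ : ↥K, ι (π γ) = γ.1.1 := fun γ =>
    congrArg Subtype.val ((MonoidHom.ofInjective (emb_injective (f := win (n := N) (m + 3) 0 (by omega)))).apply_symm_apply
      ((((MonoidHom.fst _ G).comp K.subtype).codRestrict ι.range fun x => hKle x.1 x.2) γ))
  have ι_inj : Function.Injective ι := emb_injective
  let b0 : ↥(Cfsg.SU 2 F q) →* ↥K := (bl S m (by omega)).codRestrict K fun A => bl_mem S (by omega) _ A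
  let b1 : ↥(Cfsg.SU 2 F q) →* ↥K := (bl S (m + 1) (by omega)).codRestrict K fun A => bl_mem S le_rfl _ A
  let pm : ↥(Cfsg.SU 3 F q) →* ↥K := (pair S m (by omega)).codRestrict K fun A => pair_mem S hq le_rfl _ A
  have hp0 : ∀ A, pm (e0 C A) = b0 A := fun A => Subtype.ext (pair_e0 S m (by omega) A)
  have hp1 : ∀ A, pm (e1 C A) = b1 A := fun A => Subtype.ext (pair_e1 S m (by omega) A)
  have hπp : ∀ E, π (pm E) = embW C (m + 3) 3 m le_rfl E := fun E => ι_inj (by
    rw [hπ, embW_comp]; exact (embW_congr (Nat.zero_add m) E).symm)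
  let a : USph C (m + 3) := ⟨sv ⟨m + 2, by omega⟩, by rw [form_sv, if_pos rfl]⟩
  let n1 : Fin (m + 3) := ⟨m + 1, by omega⟩
  have ha : ∀ i : Fin 3, win (n := m + 3) 3 m le_rfl i = ⟨m + i.val, by omega⟩ := fun i => rfl
  have hpv : ∀ E, (π (pm E) • a).1 = inc F (win (n := m + 3) 3 m le_rfl) *ᵥ (E.1.1 *ᵥ sv 2) := fun E => by
    rw [hπp, smul_usph]
    exact emb_sv E 2
  have hb1v : ∀ A, (π (b1 A) • a).1 = inc F (win (n := m + 3) 2 (m + 1) le_rfl) *ᵥ (A.1.1 *ᵥ sv 1) := fun A => by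
    rw [← hp1, hπp, embW_comp, smul_usph]
    exact emb_sv A 1
  have nd : ∀ v : USph C (m + 3), NonDeg a v ↔ v.1 ⟨m + 2, by omega⟩ * C.bar (v.1 ⟨m + 2, by omega⟩) ≠ 1 := fun v => by
    show C.form v.1 (sv _) * C.bar (C.form v.1 (sv _)) ≠ 1 ↔ _
    rw [form_sv_right]
  let H : Subgroup ↥K := (gam S (m + 2)).comap K.subtype
  have hinj : Set.InjOn π H := fun x hx y hy e => Subtype.ext (g2.1 hx hy (by
    show x.1.1 = y.1.1
    rw [← hπ, ← hπ, e]))
  have fixι : ∀ (X : ↥(Cfsg.SU (m + 3) F q)) (l : Fin (m + 3)), X.1.1 *ᵥ sv l = sv l ↔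
      (ι X).1.1 *ᵥ sv (win (n := N) (m + 3) 0 (by omega) l) = sv (win (n := N) (m + 3) 0 (by omega) l) := fun X l => by
    rw [emb_sv]
    exact ⟨fun e => by rw [e, inc_mulVec_sv], fun e => inc_eq_sv win_inj e⟩
  have lift : ∀ k, m + 1 ≤ k → k ≤ m + 2 → Good S k → ∀ X : ↥(Cfsg.SU (m + 3) F q),
      (∀ l : Fin (m + 3), k ≤ l.val → X.1.1 *ᵥ sv l = sv l) → ∃ x : ↥K, x.1 ∈ gam S k ∧ π x = X := by
    intro k h1 h2 hg X hX
    have : ι X ∈ fixFrom k := by
      intro i hi
      by_cases hin : i.val < m + 3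
      · rw [show i = win (n := N) (m + 3) 0 (by omega) ⟨i.val, hin⟩ from Fin.ext (by simp [win])]
        exact (fixι X _).1 (hX _ hi)
      · exact emb_fix X fun j e => hin (by subst e; simp [win])
    rw [← hg.2] at this
    obtain ⟨x, hx, hxe⟩ := this
    exact ⟨⟨x, gam_mono S (by omega) hx⟩, hx, ι_inj (by rw [hπ]; exact hxe)⟩
  have hfix : ∀ h ∈ H, π h • a = a := fun h hh => by
    have h1 : h.1.1 ∈ fixFrom (m + 2) := g2.2 ▸ Subgroup.mem_map_of_mem (MonoidHom.fst _ G) (Subgroup.mem_comap.1 hh)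
    refine Subtype.ext ((fixι _ _).2 ?_)
    rw [hπ]
    exact h1 _ (by simp [win])
  have stab : ∀ X : ↥(Cfsg.SU (m + 3) F q), X.1.1 *ᵥ a.1 = a.1 → ∃ x ∈ H, π x = X := fun X hX =>
    lift (m + 2) (by omega) le_rfl g2 X fun l hl => by
      rw [show l = (⟨m + 2, by omega⟩ : Fin (m + 3)) from Fin.ext (by simp; omega)]; exact hX
  have comm1 : ∀ x : ↥K, x.1 ∈ gam S (m + 1) → ∀ A, Commute x (b1 A) := fun x hx A =>
    Subtype.ext (gam_commute S le_rfl _ hx A).eq
  have hsv0 : ∀ l : Fin (m + 3), m ≤ l.val → C.form (sv l : Fin (m + 3) → F) (sv ⟨0, by omega⟩) = 0 := fun l hl => by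
    rw [form_sv, if_neg (by intro e; subst e; simp at hl; omega)]
  have hloc : ∀ h ∈ H, ∀ A A', NonDeg a (π (b1 A) • a) → π (h * b1 A) • a = π (b1 A') • a →
      (b1 A')⁻¹ * h * b1 A ∈ H := by
    intro h hh A A' hM he
    set d := (A.1.1 *ᵥ sv 1) 0 with hd
    set c := (A.1.1 *ᵥ sv 1) 1 with hc
    set d' := (A'.1.1 *ᵥ sv 1) 0 with hd'
    have hv : ∀ A : ↥(Cfsg.SU 2 F q), (π (b1 A) • a).1 = (A.1.1 *ᵥ sv 1) 0 • sv n1 + (A.1.1 *ᵥ sv 1) 1 • a.1 := by
      intro A
      rw [hb1v]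
      conv_lhs => rw [sum_sv (A.1.1 *ᵥ sv 1), Matrix.mulVec_sum, Fin.sum_univ_two, Matrix.mulVec_smul,
        Matrix.mulVec_smul, inc_mulVec_sv, inc_mulVec_sv]
      rfl
    have hna : n1 ≠ (⟨m + 2, by omega⟩ : Fin (m + 3)) := by simp [n1]
    have hd0 : d ≠ 0 := by
      intro e
      have h2 : (A.1.1 *ᵥ sv 1) 1 * C.bar ((A.1.1 *ᵥ sv 1) 1) = 1 := by
        have h1 := col_norm (C := C) A 1
        rwa [← hd, e, zero_mul, zero_add] at h1
      refine (nd _).1 hM ?_
      rw [hv]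
      simpa [sv, hna.symm, a] using h2
    have hha : (π h).1.1 *ᵥ a.1 = a.1 := congrArg Subtype.val (hfix h hh)
    have he' : (π h).1.1 *ᵥ (d • sv n1 + c • a.1) = d' • sv n1 + (A'.1.1 *ᵥ sv 1) 1 • a.1 := by
      have := congrArg Subtype.val he
      rwa [map_mul, mul_smul, smul_usph, hv, hv] at this
    have hcc : (A'.1.1 *ᵥ sv 1) 1 = c := by
      have h1 := C.form_su (π h) (d • sv n1 + c • a.1) a.1
      rw [hha, he'] at h1
      simpa [C.form_add_left, C.form_smul_left, form_sv, hna, a] using h1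
    rw [hcc, Matrix.mulVec_add, Matrix.mulVec_smul, Matrix.mulVec_smul, hha, add_left_inj] at he'
    set μ := d' / d with hμ
    have hh1 : (π h).1.1 *ᵥ sv n1 = μ • sv n1 := by
      rw [hμ, div_eq_inv_mul, ← smul_smul]
      exact (eq_inv_smul_iff₀ hd0).2 he'
    have hμ1 : C.bar μ * C.bar (C.bar μ) + 0 * C.bar 0 = 1 := by
      have h1 := C.form_su (π h) (sv n1) (sv n1)
      rw [hh1, C.form_smul_left, C.form_smul_right, form_sv, if_pos rfl, mul_one] at h1
      rw [C.bar_bar, zero_mul, add_zero, mul_comm, h1]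
    set T := b0 (su2 C (C.bar μ) 0 hμ1) with hT
    have hTH : T ∈ H := bl_mem S le_rfl _ _
    have hT1 : (π T).1.1 *ᵥ sv n1 = μ • sv n1 := by
      rw [hT, ← hp0, hπp, embW_comp]
      refine (emb_sv _ 1).trans ?_
      rw [su2_col1]
      simp [C.bar_bar, Matrix.mulVec_smul, inc_mulVec_sv]
      rfl
    have hμ0 : μ ≠ 0 := fun e => by rw [e] at hμ1; simp at hμ1
    obtain ⟨y, hy, hye⟩ := lift (m + 1) le_rfl (by omega) g1 ((π T)⁻¹ * π h) fun l hl => by
      rcases (show l.val = m + 1 ∨ l.val = m + 2 by omega) with e | e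
      · rw [show l = n1 from Fin.ext e, suMat_mulVec_mul, hh1, ← hT1, su_inv_mulVec]
      · rw [show l = (⟨m + 2, by omega⟩ : Fin (m + 3)) from Fin.ext e, suMat_mulVec_mul]
        show _ *ᵥ ((π h).1.1 *ᵥ a.1) = a.1
        have := congrArg Subtype.val (hfix T hTH)
        rw [smul_usph] at this
        rw [hha]
        conv_lhs => rw [← this, su_inv_mulVec]
    have hyH : y ∈ H := gam_mono S (by omega) hy
    have hTy : h = T * y := hinj hh (mul_mem hTH hyH) (by rw [map_mul, hye, mul_inv_cancel_left])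
    set E := (e1 C A')⁻¹ * e0 C (su2 C (C.bar μ) 0 hμ1) * e1 C A
    have hE : (b1 A')⁻¹ * T * b1 A = pm E := by rw [map_mul, map_mul, map_inv, hp1, hp1, hp0]
    have hEa : π (pm E) • a = a := by
      rw [hTy, mul_assoc, (comm1 y hy A).eq, ← mul_assoc, map_mul, mul_smul, hfix y hyH] at he
      rw [← hE, mul_assoc, map_mul, mul_smul, he, map_inv, inv_smul_smul]
    obtain ⟨B, hB⟩ : E ∈ (e0 C).range := mem_e0.2 (inc_eq_sv win_inj ((hpv E).symm.trans (congrArg Subtype.val hEa)))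
    rw [hTy, show (b1 A')⁻¹ * (T * y) * b1 A = (b1 A')⁻¹ * T * (y * b1 A) by group, (comm1 y hy A).eq,
      ← mul_assoc, hE, ← hB, hp0]
    exact mul_mem (bl_mem S le_rfl _ _) hyH
  have L : Cover.Lift π H b1.range (NonDeg (C := C) (n := m + 3)) SphereGraph.Tri a := by
    refine ⟨hinj, ?_, ?_, ?_, ?_, ?_⟩
    · ext X
      rw [MulAction.mem_stabilizer_iff, Subgroup.mem_map]
      exact ⟨fun ⟨x, hx, e⟩ => e ▸ hfix x hx, fun h => stab X (congrArg Subtype.val h)⟩
    · intro x hx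
      set c := x.1 ⟨m + 2, by omega⟩ with hc
      have hc1 := (nd x).1 hx
      obtain ⟨d, hd⟩ := C.exists_norm (c := 1 - c * C.bar c) (by rw [map_sub, map_one, C.norm_fixed])
      have hA : C.bar c * C.bar (C.bar c) + (-C.bar d) * C.bar (-C.bar d) = 1 := by
        simp only [map_neg, C.bar_bar]; linear_combination hd
      set r := b1 (su2 C _ _ hA)
      have hra : (π r • a).1 = d • sv n1 + c • a.1 := by
        rw [hb1v, su2_col1]
        simp [Matrix.mulVec_add, Matrix.mulVec_smul, inc_mulVec_sv, C.bar_bar]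
        rfl
      have hna : n1 ≠ (⟨m + 2, by omega⟩ : Fin (m + 3)) := by simp [n1]
      have hra' : (π r • a).1 ⟨m + 2, by omega⟩ = c := by
        rw [hra]; simp [sv, a, hna.symm]
      have hMr : NonDeg a (π r • a) := (nd _).2 (by rw [hra']; exact hc1)
      obtain ⟨X, hX⟩ := exists_su_move_tuple (C := C) (li_pair hMr) (li_pair hx) (fun i j => by
          have e1 : C.form (π r • a).1 a.1 = c := by rw [form_sv_right, hra']
          have e2 : C.form x.1 a.1 = c := form_sv_right _ _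
          fin_cases i <;> fin_cases j <;> simp [a.2, x.2, (π r • a).2, e1, e2]
          rw [← C.bar_form, e1, ← C.bar_form x.1 a.1, e2])
        (w := sv ⟨0, by omega⟩) (by rw [form_sv, if_pos rfl])
        (fun i => by
          fin_cases i
          · exact hsv0 _ (by simp)
          · show C.form (π r • a).1 _ = 0
            rw [hra, C.form_add_left, C.form_smul_left, C.form_smul_left, hsv0 n1 (by simp [n1]), hsv0 _ (by simp)]
            simp)
      obtain ⟨h, hh, he⟩ := stab X (hX 0)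
      exact ⟨h, hh, r, ⟨_, rfl⟩, Subtype.ext (by rw [map_mul, he, mul_smul, smul_usph]; exact hX 1)⟩
    · rintro h hh _ ⟨A, rfl⟩ _ ⟨A', rfl⟩ hM he
      exact hloc h hh A A' hM he
    · rintro h hh _ ⟨A, rfl⟩ _ ⟨A', rfl⟩ hMx hMx' hxy hT
      set y := π (h * b1 A') • a with hy
      set α := y.1 n1 with hα
      set γ := y.1 ⟨m + 2, by omega⟩ with hγ
      have hMy : NonDeg a y := by
        rw [hy, map_mul, mul_smul]
        have := SphereGraph.nonDeg_smul (π h) hMx'
        rwa [hfix h hh] at this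
      have hna : n1 ≠ (⟨m + 2, by omega⟩ : Fin (m + 3)) := by simp [n1]
      have hxv : (π (b1 A) • a).1 = (A.1.1 *ᵥ sv 1) 0 • sv n1 + (A.1.1 *ᵥ sv 1) 1 • a.1 := by
        rw [hb1v]
        conv_lhs => rw [sum_sv (A.1.1 *ᵥ sv 1), Matrix.mulVec_sum, Fin.sum_univ_two, Matrix.mulVec_smul,
          Matrix.mulVec_smul, inc_mulVec_sv, inc_mulVec_sv]
        rfl
      have hne : 1 - α * C.bar α - γ * C.bar γ ≠ 0 := by
        intro e
        apply hT
        set d := (A.1.1 *ᵥ sv 1) 0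
        set c := (A.1.1 *ᵥ sv 1) 1
        have hn : d * C.bar d + c * C.bar c = 1 := col_norm A 1
        have f1 : C.form (π (b1 A) • a).1 a.1 = c := by rw [form_sv_right, hxv]; simp [sv, a, hna.symm]
        have f2 : C.form y.1 a.1 = γ := form_sv_right _ _
        have f3 : C.form (π (b1 A) • a).1 y.1 = d * C.bar α + c * C.bar γ := by
          rw [hxv, C.form_add_left, C.form_smul_left, C.form_smul_left, ← C.bar_form y.1, ← C.bar_form y.1,
            form_sv_right, show C.form y.1 a.1 = γ from f2]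
        rw [← C.bar_form (π (b1 A) • a).1 a.1, f1, ← C.bar_form y.1 a.1, f2, f3, ← C.bar_form (π (b1 A) • a).1 y.1,
          f3]
        simp only [SphereGraph.nm, map_add, map_mul, C.bar_bar]
        linear_combination (d * C.bar d) * e + (γ * C.bar γ - 1) * hn
      obtain ⟨δ, hδ⟩ := C.exists_norm (c := 1 - α * C.bar α - γ * C.bar γ)
        (by rw [map_sub, map_sub, map_one, C.norm_fixed, C.norm_fixed])
      have hδ0 : δ ≠ 0 := fun e => hne (by rw [← hδ, e, zero_mul])
      let nm0 : Fin (m + 3) := ⟨m, by omega⟩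
      set z : Fin (m + 3) → F := δ • sv nm0 + α • sv n1 + γ • a.1 with hz
      have hn01 : nm0 ≠ n1 := by simp [nm0, n1]
      have hn0a : nm0 ≠ (⟨m + 2, by omega⟩ : Fin (m + 3)) := by simp [nm0]
      have hzz : C.form z z = 1 := by
        simp [hz, C.form_add_left, C.form_add_right, C.form_smul_left, C.form_smul_right, form_sv, a, hn01, hn0a,
          hn01.symm, hn0a.symm, hna, hna.symm]
        linear_combination hδ
      obtain ⟨X, hX⟩ := exists_su_move_tuple (C := C) (t := ![sv n1, a.1, z]) (t' := ![sv n1, a.1, y.1])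
        (by
          rw [Fintype.linearIndependent_iff]
          intro c hc
          have e0 := congrFun hc nm0
          have e1 := congrFun hc n1
          have e2 := congrFun hc ⟨m + 2, by omega⟩
          simp [Fin.sum_univ_three, hz, sv, a, hn01, hn0a, hn01.symm, hn0a.symm, hna, hna.symm] at e0 e1 e2
          have c2 : c 2 = 0 := e0.resolve_right hδ0
          intro i
          fin_cases i
          exacts [by simpa [c2] using e1, by simpa [c2] using e2, c2])
        (by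
          rw [Fintype.linearIndependent_iff]
          intro c hc
          have g0 := congrFun hc n1
          have g1 := congrFun hc ⟨m + 2, by omega⟩
          have g2 := congrArg (fun v => C.form v y.1) hc
          simp [Fin.sum_univ_three, sv, a, hna, hna.symm, ← hα, ← hγ] at g0 g1
          have f : ∀ i, C.form (sv i : Fin (m + 3) → F) y.1 = C.bar (y.1 i) := fun i => by
            rw [← C.bar_form, form_sv_right]
          simp [Fin.sum_univ_three, C.form_add_left, C.form_smul_left, C.form_zero_left, a, f, y.2, ← hα, ← hγ] at g2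
          have c2 : c 2 = 0 := by
            have : c 2 * (1 - α * C.bar α - γ * C.bar γ) = 0 := by
              linear_combination g2 - C.bar α * g0 - C.bar γ * g1
            exact (mul_eq_zero.1 this).resolve_right hne
          intro i
          fin_cases i
          exacts [by simpa [c2] using g0, by simpa [c2] using g1, c2])
        (fun i j => by
          have f : ∀ (i : Fin (m + 3)) (v : Fin (m + 3) → F), C.form (sv i) v = C.bar (v i) := fun i v => by
            rw [← C.bar_form, form_sv_right]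
          have z1 : z n1 = α := by simp [hz, sv, a, hn01, hn01.symm, hna]
          have z2 : z ⟨m + 2, by omega⟩ = γ := by simp [hz, sv, a, hn0a, hn0a.symm, hna, hna.symm]
          fin_cases i <;> fin_cases j <;>
            simp [form_sv_right, f, y.2, hzz, z1, z2, a, ← hα, ← hγ])
        (w := sv ⟨0, by omega⟩) (by rw [form_sv, if_pos rfl])
        (fun i => by
          fin_cases i
          · exact hsv0 n1 (by simp [n1])
          · exact hsv0 _ (by simp)
          · show C.form z _ = 0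
            simp only [hz, C.form_add_left, C.form_smul_left, a]
            rw [hsv0 n1 (by simp [n1]), hsv0 nm0 (by simp [nm0]), hsv0 (⟨m + 2, by omega⟩ : Fin (m + 3)) (by simp)]
            ring)
      obtain ⟨s, hs, hse⟩ := lift (m + 1) le_rfl (by omega) g1 X fun l hl => by
        rcases (show l.val = m + 1 ∨ l.val = m + 2 by omega) with e | e
        · rw [show l = n1 from Fin.ext e]; exact hX 0
        · rw [show l = (⟨m + 2, by omega⟩ : Fin (m + 3)) from Fin.ext e]; exact hX 1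
      have hsH : s ∈ H := gam_mono S (by omega) hs
      set v : Fin 3 → F := ![δ, α, γ] with hv
      obtain ⟨B0, A0, hBA⟩ := exists_reach (C := C) (v := v)
        (by simp [hv, UCtx.form, Fin.sum_univ_three]; linear_combination hδ)
        (by simpa [hv] using (nd y).1 hMy)
      have hz0 : (π (b0 B0 * b1 A0) • a).1 = z := by
        rw [← hp0, ← hp1, ← map_mul pm, hpv, hBA]
        conv_lhs => rw [sum_sv v, Matrix.mulVec_sum, Fin.sum_univ_three, Matrix.mulVec_smul, Matrix.mulVec_smul,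
          Matrix.mulVec_smul, inc_mulVec_sv, inc_mulVec_sv, inc_mulVec_sv]
        simp [hv, hz, a]
        rfl
      have hyz : y = π (s * (b0 B0 * b1 A0)) • a := (Subtype.ext (by
        rw [map_mul π s, mul_smul, smul_usph, hz0, hse]; exact hX 2) : π (s * (b0 B0 * b1 A0)) • a = y).symm
      have hb0H : b0 B0 ∈ H := bl_mem S le_rfl _ _
      have h'' := hloc _ (mul_mem (inv_mem (mul_mem hsH hb0H)) hh) A' A0 hMx' (by
        rw [mul_assoc, map_mul, mul_smul, ← hy, hyz, ← mul_assoc, ← mul_smul, ← map_mul]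
        congr 2; group)
      set E := (e1 C A)⁻¹ * e0 C B0 * e1 C A0
      have hE : pm E = (b1 A)⁻¹ * b0 B0 * b1 A0 := by rw [map_mul, map_mul, map_inv, hp1, hp1, hp0]
      have hEy : y = π s • π (b1 A) • π (pm E) • a := by
        rw [hyz, hE, ← mul_smul, ← mul_smul, ← map_mul, ← map_mul]
        congr 2; group
      have hsx : π s • π (b1 A) • a = π (b1 A) • a := by
        rw [← mul_smul, ← map_mul, (comm1 s hs A).eq, map_mul, mul_smul, hfix s hsH]
      have hEM : NonDeg a (π (pm E) • a) := by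
        have h0 : NonDeg ((π s * π (b1 A)) • a) ((π s * π (b1 A)) • π (pm E) • a) := by
          rw [mul_smul, mul_smul, hsx, ← hEy]; exact hxy
        have h1 := SphereGraph.nonDeg_smul (π s * π (b1 A))⁻¹ h0
        rwa [inv_smul_smul, inv_smul_smul] at h1
      obtain ⟨B1, A1, B2, hE3⟩ := exists_decomp (C := C) E (by
        have h1 := (nd _).1 hEM
        rwa [hpv, show (⟨m + 2, by omega⟩ : Fin (m + 3)) = win (n := m + 3) 3 m le_rfl 2 from rfl,
          inc_apply win_inj] at h1)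
      refine ⟨s * b0 B1, mul_mem hsH (bl_mem S le_rfl _ _), b1 A1, ⟨_, rfl⟩,
        b0 B2 * ((b1 A0)⁻¹ * ((s * b0 B0)⁻¹ * h) * b1 A'), mul_mem (bl_mem S le_rfl _ _) h'', ?_⟩
      have hEd : (b1 A)⁻¹ * b0 B0 * b1 A0 = b0 B1 * b1 A1 * b0 B2 := by
        rw [← hE, hE3, map_mul, map_mul, hp0, hp1, hp0]
      have hsA : (b1 A)⁻¹ * s = s * (b1 A)⁻¹ := ((comm1 s hs A).inv_right).eq.symm
      calc (b1 A)⁻¹ * h * b1 A'
          = (b1 A)⁻¹ * s * (b0 B0 * b1 A0) * ((b1 A0)⁻¹ * ((s * b0 B0)⁻¹ * h) * b1 A') := by group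
        _ = s * ((b1 A)⁻¹ * b0 B0 * b1 A0) * ((b1 A0)⁻¹ * ((s * b0 B0)⁻¹ * h) * b1 A') := by rw [hsA]; group
        _ = _ := by rw [hEd]; group
    · refine eq_top_iff.2 fun x _ => ?_
      set P := Subgroup.closure ((H : Set ↥K) ∪ {r | r ∈ b1.range ∧ NonDeg a (π r • a)})
      have : K ≤ P.map K.subtype := iSup_le fun i => iSup_le fun hi => iSup_le fun hN' => by
        rintro _ ⟨A, rfl⟩
        by_cases hlt : i + 2 ≤ m + 2
        · exact ⟨⟨_, bl_mem S hi hN' A⟩, Subgroup.subset_closure (Or.inl (bl_mem S hlt hN' A)), rfl⟩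
        obtain rfl : i = m + 1 := by omega
        refine ⟨b1 A, ?_, rfl⟩
        have key : ∀ A : ↥(Cfsg.SU 2 F q), (A.1.1 *ᵥ sv 1) 1 * C.bar ((A.1.1 *ᵥ sv 1) 1) ≠ 1 → b1 A ∈ P :=
          fun A hA => Subgroup.subset_closure (Or.inr ⟨⟨A, rfl⟩, (nd _).2 (by
            rwa [hb1v, show (⟨m + 2, by omega⟩ : Fin (m + 3)) = win (n := m + 3) 2 (m + 1) le_rfl 1 from rfl,
              inc_apply win_inj])⟩)
        by_cases hA : (A.1.1 *ᵥ sv 1) 1 * C.bar ((A.1.1 *ᵥ sv 1) 1) ≠ 1
        · exact key A hA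
        obtain ⟨p, r, hpr, rfl⟩ := su2_eq (C := C) A
        have hpp : p * C.bar p = 1 := by
          rw [not_not, su2_col1] at hA
          simpa [sv, C.bar_bar, mul_comm] using hA
        have hr0 : r = 0 := by
          have : r * C.bar r = 0 := by linear_combination hpr - hpp
          exact SphereGraph.nm_eq_zero this
        set w := su2 C 0 1 (by simp)
        have hw1 : w.1.1 *ᵥ sv 1 = -(sv 0 : Fin 2 → F) := by
          rw [su2_col1]; simp
        have hwi : (w⁻¹).1.1 *ᵥ sv 0 = -(sv 1 : Fin 2 → F) := by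
          have h1 := su_inv_mulVec w (sv 1)
          rw [hw1, Matrix.mulVec_neg] at h1
          rw [← h1, neg_neg]
        have e : su2 C p r hpr = su2 C p r hpr * w * w⁻¹ := by group
        rw [e, map_mul]
        refine mul_mem (key _ ?_) (map_inv b1 w ▸ inv_mem (key w ?_))
        · rw [suMat_mulVec_mul, hw1, Matrix.mulVec_neg, su2_col0, hr0]
          simp [sv]
        · rw [hw1]; simp [sv]
      obtain ⟨y, hy, e⟩ := this x.2
      rwa [Subtype.val_injective e] at hy
  obtain ⟨hbi, hbs⟩ := L.bijective (SphereGraph.graph hr (by omega) a)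
  refine ⟨fun x hx y hy e => congrArg Subtype.val (hbi (a₁ := (⟨x, hx⟩ : ↥K)) (a₂ := ⟨y, hy⟩) (ι_inj (by
    rw [hπ, hπ]; exact e))), ?_⟩
  refine le_antisymm ?_ fun X hX => ?_
  · rintro _ ⟨x, hx, rfl⟩
    exact hι ▸ hKle x hx
  · obtain ⟨X, rfl⟩ := (hι.symm ▸ hX : X ∈ ι.range)
    obtain ⟨x, rfl⟩ := hbs X
    exact ⟨x.1, x.2, (hπ x).symm⟩

/-- the image of the unitary group -/
theorem Sys.surjects (S : Sys C N G) (hr : SphereGraph.Room C) (hN : 3 ≤ N)
    (hgen : ⨆ (j : ℕ) (_ : j + 2 ≤ N), (S.ψ j).range = ⊤) :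
    ∃ f : ↥(Cfsg.SU N F q) →* G, Function.Surjective f := by
  have hq : ∃ s : F, C.bar s = s ∧ s ≠ 0 ∧ s ≠ 1 := by
    obtain ⟨s, a, b, c, -⟩ := hr 1 1
    exact ⟨s, a, b, c⟩
  have key : ∀ k, k + 3 ≤ N → Good S (k + 2) ∧ Good S (k + 3) := by
    intro k
    induction k with
    | zero => exact fun h => good_base S hq hN
    | succ k ih => exact fun h => ⟨(ih (by omega)).2, good_step S hr (by omega) h (ih (by omega)).2 (ih (by omega)).1⟩
  obtain ⟨hi, hm⟩ : Good S N := by
    have := (key (N - 3) (by omega)).2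
    rwa [show N - 3 + 3 = N by omega] at this
  rw [fixFrom_top] at hm
  have hb : Function.Bijective ((MonoidHom.fst ↥(Cfsg.SU N F q) G).comp (gam S N).subtype) :=
    ⟨fun x y e => Subtype.ext (hi x.2 y.2 e), fun X => by
      obtain ⟨x, hx, e⟩ := (hm.ge (Subgroup.mem_top X) : X ∈ (gam S N).map _)
      exact ⟨⟨x, hx⟩, e⟩⟩
  let e := MulEquiv.ofBijective _ hb
  refine ⟨((MonoidHom.snd _ G).comp (gam S N).subtype).comp e.symm.toMonoidHom, fun g => ?_⟩
  have : g ∈ (gam S N).map (MonoidHom.snd _ G) := by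
    refine (iSup₂_le fun j hj => ?_ : ⨆ (j : ℕ) (_ : j + 2 ≤ N), (S.ψ j).range ≤ _) (hgen.ge (Subgroup.mem_top g))
    rintro _ ⟨A, rfl⟩
    exact ⟨_, bl_mem S hj hj A, rfl⟩
  obtain ⟨x, hx, rfl⟩ := this
  exact ⟨e ⟨x, hx⟩, by simp⟩

end CfsgLib.Phan
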