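import Cfsg.Agent.Lib.Phan.Weak
import Cfsg.Agent.Lib.PushUpTwo.SLFacts

/-!
# Phan systems: two subgroups of rank one with commuting tori form a standard pair
-/

set_option autoImplicit false
set_option linter.all false

namespace CfsgLib.Phan

open Matrix CfsgLib.SU CfsgLib.Lie.BoundedPres.SUBase CfsgLib.Lie.BoundedPres.SUGraph
open scoped MatrixGroups
open MulAction (stabilizer)

universe u

variable {F : Type u} [Field F] [Fintype F] {q : ℕ} {C : UCtx F q}

/-- orthogonal isotropic vectors in dimension three are proportional -/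
theorem iso_parallel {x y : Fin 3 → F} (hx : x ≠ 0) (hxx : C.form x x = 0) (hyy : C.form y y = 0)
    (hxy : C.form x y = 0) : ∃ c : F, y = c • x := by
  by_contra hcon
  have hy : y ≠ 0 := fun h => hcon ⟨0, by rw [h, zero_smul]⟩
  obtain ⟨f, hfx, hfy⟩ : ∃ f, C.form f x = 0 ∧ C.form f y ≠ 0 := by
    by_contra hf
    push Not at hf
    exact hcon (C.eq_smul_of_orth hx hf)
  obtain ⟨g, hgy, hgx⟩ : ∃ g, C.form g y = 0 ∧ C.form g x ≠ 0 := by
    by_contra hf
    push Not at hf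
    obtain ⟨c, hc⟩ := C.eq_smul_of_orth hy hf
    exact hcon ⟨c⁻¹, by rw [hc, inv_smul_smul₀ (fun h => hx (by rw [hc, h, zero_smul]))]⟩
  have hyx := C.form_swap_zero hxy
  have hli : LinearIndependent F ![x, y, f, g] := by
    rw [Fintype.linearIndependent_iff]
    intro c hc
    have h : ∀ v, ∑ i, c i * C.form (![x, y, f, g] i) v = 0 := fun v => by
      have := congrArg (fun t => C.form t v) hc
      simpa [C.form_sum_left, C.form_smul_left, C.form_zero_left] using this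
    have c3 : c 3 = 0 := by
      have := h x
      simpa [Fin.sum_univ_four, hxx, hyx, hfx, hgx] using this
    have c2 : c 2 = 0 := by
      have := h y
      simpa [Fin.sum_univ_four, hxy, hyy, hgy, hfy] using this
    have c1 : c 1 = 0 := by
      have := h f
      simpa [Fin.sum_univ_four, c2, c3, C.form_swap_zero hfx,
        show C.form y f ≠ 0 from fun e => hfy (C.form_swap_zero e)] using this
    have c0 : c 0 = 0 := by
      have := h g
      simpa [Fin.sum_univ_four, c1, c2, c3, show C.form x g ≠ 0 from fun e => hgx (C.form_swap_zero e)] using this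
    intro i
    fin_cases i
    exacts [c0, c1, c2, c3]
  have := hli.fintype_card_le_finrank
  rw [Fintype.card_fin, Module.finrank_fin_fun] at this
  omega

/-- an element moving a unit vector to the last coordinate vector -/
theorem exists_to_last (a : USph C 3) : ∃ B : ↥(Cfsg.SU 3 F q), B.1.1 *ᵥ sv 2 = a.1 := by
  obtain ⟨e, he, hea, -⟩ := exists_unit_perp (C := C) ![a.1] (fun i j => by fin_cases i; fin_cases j; simpa using a.2)
    (Fin.elim0 : Fin 0 → Fin 3 → F) (by omega)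
  obtain ⟨A, hA⟩ := exists_su_move_tuple (C := C) (t := ![sv 2, sv 1]) (t' := ![a.1, e])
    (li_coord C (on_two (by rw [form_sv, if_pos rfl]) (by rw [form_sv, if_pos rfl]) (by rw [form_sv, if_neg (by decide)])))
    (li_coord C (on_two a.2 he (C.form_swap_zero (hea 0))))
    (fun i j => by
      have h1 : C.form e a.1 = 0 := hea 0
      fin_cases i <;> fin_cases j <;> simp [form_sv, a.2, he, h1, C.form_swap_zero h1])
    (w := sv 0) (by rw [form_sv, if_pos rfl]) (fun i => by fin_cases i <;> simp [form_sv])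
  exact ⟨A, hA 0⟩

theorem mem_stab {X : ↥(Cfsg.SU 3 F q)} {a : USph C 3} : X ∈ stabilizer _ a ↔ X.1.1 *ᵥ a.1 = a.1 :=
  MulAction.mem_stabilizer_iff.trans Subtype.ext_iff

/-- the stabiliser of a unit vector is a conjugate of the first block -/
theorem stab_eq (a : USph C 3) {B : ↥(Cfsg.SU 3 F q)} (hB : B.1.1 *ᵥ sv 2 = a.1) :
    stabilizer _ a = (e0 C).range.map (MulAut.conj B).toMonoidHom := by
  ext X
  rw [mem_stab, Subgroup.mem_map]
  constructor
  · intro h
    exact ⟨B⁻¹ * X * B, mem_e0.2 (by rw [suMat_mulVec_mul, suMat_mulVec_mul, hB, h, ← hB, su_inv_mulVec]),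
      by simp [MulAut.conj_apply]; group⟩
  · rintro ⟨Y, hY, rfl⟩
    show (B * Y * B⁻¹).1.1 *ᵥ a.1 = a.1
    rw [← hB, suMat_mulVec_mul, suMat_mulVec_mul, su_inv_mulVec, mem_e0.1 hY]

theorem card_stab (a : USph C 3) : Nat.card ↥(stabilizer ↥(Cfsg.SU 3 F q) a) = Nat.card ↥(Cfsg.SU 2 F q) := by
  obtain ⟨B, hB⟩ := exists_to_last a
  rw [stab_eq a hB, Subgroup.card_map_of_injective (MulAut.conj B).injective]
  exact (Nat.card_congr (MonoidHom.ofInjective emb_injective).toEquiv).symm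

/-- fixed vectors of a semisimple element of the stabiliser -/
theorem fix_line {p : ℕ} [Fact p.Prime] [CharP F p] {X : ↥(Cfsg.SU 3 F q)} {a : USph C 3}
    (ha : X.1.1 *ᵥ a.1 = a.1) (hX : X ^ p ≠ 1) {v : Fin 3 → F} (hv : X.1.1 *ᵥ v = v) :
    v = C.form v a.1 • a.1 := by
  obtain ⟨B, hB⟩ := exists_to_last a
  obtain ⟨Y, hY⟩ : B⁻¹ * X * B ∈ (e0 C).range :=
    mem_e0.2 (by rw [suMat_mulVec_mul, suMat_mulVec_mul, hB, ha, ← hB, su_inv_mulVec])
  set w := (B⁻¹).1.1 *ᵥ v with hw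
  have hw1 : (e0 C Y).1.1 *ᵥ w = w := by
    rw [hY, suMat_mulVec_mul, suMat_mulVec_mul, hw, su_mulVec_inv, hv]
  have hY1 : Y ^ p ≠ 1 := fun h => hX (by
    have e : X = B * e0 C Y * B⁻¹ := by rw [hY]; group
    rw [e, conj_pow, ← map_pow, h, map_one]; group)
  obtain ⟨c, r, hcr, rfl⟩ := su2_eq (C := C) Y
  have hsum := sum_sv w
  rw [Fin.sum_univ_three] at hsum
  have h02 : (e0 C (su2 C c r hcr)).1.1 *ᵥ w =
      w 0 • (c • sv 0 + r • sv 1) + w 1 • (-C.bar r • sv 0 + C.bar c • sv 1) + w 2 • sv 2 := by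
    conv_lhs => rw [hsum]
    rw [Matrix.mulVec_add, Matrix.mulVec_add, Matrix.mulVec_smul, Matrix.mulVec_smul, Matrix.mulVec_smul,
      mem_e0.1 ⟨_, rfl⟩, show (sv 0 : Fin 3 → F) = sv (win (n := 3) 2 0 (by norm_num) 0) from rfl, emb_sv,
      show (sv 1 : Fin 3 → F) = sv (win (n := 3) 2 0 (by norm_num) 1) from rfl, emb_sv, su2_col0, su2_col1]
    simp [Matrix.mulVec_add, Matrix.mulVec_smul, Matrix.mulVec_neg, neg_smul, inc_mulVec_sv]
  rw [hw1] at h02
  have g0 := congrFun h02 0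
  have g1 := congrFun h02 1
  simp [sv] at g0 g1
  have hz : w 0 = 0 ∧ w 1 = 0 := by
    by_contra hne
    apply hY1
    have hd : (c - 1) * (C.bar c - 1) + r * C.bar r = 0 := by
      have d0 : ((c - 1) * (C.bar c - 1) + r * C.bar r) * w 0 = 0 := by
        linear_combination (1 - C.bar c) * g0 - C.bar r * g1
      have d1 : ((c - 1) * (C.bar c - 1) + r * C.bar r) * w 1 = 0 := by
        linear_combination r * g0 + (1 - c) * g1
      by_contra hd
      exact hne ⟨(mul_eq_zero.1 d0).resolve_left hd, (mul_eq_zero.1 d1).resolve_left hd⟩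
    have hN : ((su2 C c r hcr).1.1 - 1) ^ 2 = 0 := by
      rw [pow_two]
      ext i j
      fin_cases i <;> fin_cases j <;> simp [su2, UCtx.mkSU, Matrix.mul_apply, Fin.sum_univ_two]
      · linear_combination -c * (hd - hcr) - hcr
      · linear_combination C.bar r * (hd - hcr)
      · linear_combination -r * (hd - hcr)
      · linear_combination -C.bar c * (hd - hcr) - hcr
    have hp : ((su2 C c r hcr).1.1 - 1) ^ p = 0 :=
      pow_eq_zero_of_le (Fact.out : p.Prime).two_le hN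
    rw [sub_pow_char_of_commute (p := p) (Commute.one_right _), one_pow, sub_eq_zero] at hp
    exact Subtype.ext (Subtype.ext (by simpa using hp))
  obtain ⟨t, ht⟩ : ∃ t : F, v = t • a.1 := ⟨w 2, by
    rw [← su_mulVec_inv B v, ← hw, hsum, hz.1, hz.2]
    simp [Matrix.mulVec_smul, hB, show (sv 2 : Fin 3 → F) 2 = 1 from by simp [sv]]⟩
  rw [ht, C.form_smul_left, a.2, mul_one]

/-- a copy of `SU₂` fixing a unit vector is a stabiliser -/
theorem range_eq_stab {f : ↥(Cfsg.SU 2 F q) →* ↥(Cfsg.SU 3 F q)} (hf : Function.Injective f) {a : USph C 3}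
    (h : f.range ≤ stabilizer _ a) : f.range = stabilizer _ a := by
  refine Subgroup.eq_of_le_of_card_ge h (le_of_eq ?_)
  rw [card_stab]
  exact Nat.card_congr (MonoidHom.ofInjective hf).toEquiv

include C in
theorem su_two_perfect (hF : Fintype.card F = q ^ 2) (hq : 3 < q) : commutator ↥(Cfsg.SU 2 F q) = ⊤ := by
  obtain ⟨K, _, _, hK, ⟨e⟩⟩ := su_two_equiv (C := C) hF
  have h := (Classical.sl_perfect_and_psl_simple (F := K) (n := 2) le_rfl (by omega)).1
  have h2 := congrArg (Subgroup.map e.symm.toMonoidHom) h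
  rwa [Subgroup.map_top_of_surjective _ e.symm.surjective, commutator_def, Subgroup.map_commutator,
    Subgroup.map_top_of_surjective _ e.symm.surjective, ← commutator_def] at h2

/-- odd characteristic -/
theorem fix_odd (hF : Fintype.card F = q ^ 2) (hq : 3 < q) (h2 : (2 : F) ≠ 0)
    {f : ↥(Cfsg.SU 2 F q) →* ↥(Cfsg.SU 3 F q)} (hf : Function.Injective f) :
    ∃ a : USph C 3, f.range ≤ stabilizer _ a := by
  classical
  obtain ⟨p, hp⟩ := CharP.exists F
  haveI : Fact p.Prime := ⟨CharP.char_is_prime F p⟩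
  have hne : (-1 : F) ≠ 1 := fun h => h2 (by linear_combination -h)
  set m := su2 C (-1) 0 (by simp) with hm
  have hm1 : m.1.1 = -1 := by
    ext i j; fin_cases i <;> fin_cases j <;> simp [hm, su2, UCtx.mkSU]
  set z := f m with hz
  have hz1 : z ≠ 1 := fun h => by
    have := hf (h.trans (map_one f).symm)
    have e := congrFun (congrFun (congrArg (fun X : ↥(Cfsg.SU 2 F q) => X.1.1) this) 0) 0
    simp [hm1] at e
    exact hne e
  have hz2 : z * z = 1 := by
    rw [hz, ← map_mul, show m * m = 1 from Subtype.ext (Subtype.ext (by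
      show m.1.1 * m.1.1 = 1
      simp [hm1])), map_one]
  have hzc : ∀ g, f g * z = z * f g := fun g => by
    rw [hz, ← map_mul, ← map_mul]
    congr 1
    exact Subtype.ext (Subtype.ext (by show g.1.1 * m.1.1 = m.1.1 * g.1.1; simp [hm1]))
  have hzz : ∀ x, z.1.1 *ᵥ (z.1.1 *ᵥ x) = x := fun x => by
    rw [← suMat_mulVec_mul, hz2, su_one_mulVec]
  obtain ⟨w, hw, hww⟩ : ∃ w : Fin 3 → F, z.1.1 *ᵥ w = w ∧ C.form w w ≠ 0 := by
    by_contra hcon
    push Not at hcon
    have hfix : ∀ x, z.1.1 *ᵥ (x + z.1.1 *ᵥ x) = x + z.1.1 *ᵥ x := fun x => by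
      rw [Matrix.mulVec_add, hzz, add_comm]
    have hall : ∀ x, x + z.1.1 *ᵥ x = 0 := fun x => by
      refine C.eq_zero_of_form fun y => ?_
      -- polarise
      have hpol : ∀ u v, z.1.1 *ᵥ u = u → z.1.1 *ᵥ v = v → C.form u v = 0 := fun u v hu hv => by
        by_contra hne
        obtain ⟨s, -, hs⟩ := C.exists_trace_ne_zero
        have h1 := hcon ((s / C.form u v) • u + v) (by rw [Matrix.mulVec_add, Matrix.mulVec_smul, hu, hv])
        simp only [C.form_add_left, C.form_add_right, C.form_smul_left, C.form_smul_right, hcon u hu,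
          hcon v hv] at h1
        rw [← C.bar_form u v, ← map_mul, div_mul_cancel₀ _ hne] at h1
        exact hs (by linear_combination h1)
      have h1 := hpol _ _ (hfix x) (hfix y)
      have h3 := C.form_su z x y
      have h4 := C.form_su z (z.1.1 *ᵥ x) y
      rw [hzz] at h4
      simp only [C.form_add_left, C.form_add_right, h3] at h1
      have : (2 : F) * C.form (x + z.1.1 *ᵥ x) y = 0 := by
        rw [C.form_add_left]; linear_combination h1 - h4
      exact (mul_eq_zero.1 this).resolve_left h2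
    have hmat : z.1.1 = (-1 : F) • (1 : Matrix (Fin 3) (Fin 3) F) := Matrix.ext_iff_mulVec.2 fun x => by
      rw [Matrix.smul_mulVec, Matrix.one_mulVec, neg_one_smul]
      exact eq_neg_of_add_eq_zero_right (hall x)
    have := z.1.2
    rw [hmat, Matrix.det_smul, Matrix.det_one, Fintype.card_fin] at this
    exact hne (by linear_combination this)
  obtain ⟨t, -, ht⟩ := exists_normalise (C := C) hww
  set a : USph C 3 := ⟨t • w, ht⟩
  have hza : z.1.1 *ᵥ a.1 = a.1 := by rw [Matrix.mulVec_smul, hw]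
  have hzp : z ^ p ≠ 1 := by
    have hodd : Odd p := (Fact.out : p.Prime).odd_of_ne_two fun e => h2 (by
      subst e
      exact_mod_cast CharP.cast_eq_zero F 2)
    obtain ⟨k, rfl⟩ := hodd
    rw [pow_succ, pow_mul, pow_two, hz2, one_pow, one_mul]
    exact hz1
  have hline : ∀ g, (f g).1.1 *ᵥ a.1 = C.form ((f g).1.1 *ᵥ a.1) a.1 • a.1 := fun g =>
    fix_line hza hzp (by rw [← suMat_mulVec_mul, ← hzc, suMat_mulVec_mul, hza])
  let χ : ↥(Cfsg.SU 2 F q) →* F :=
    { toFun := fun g => C.form ((f g).1.1 *ᵥ a.1) a.1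
      map_one' := by rw [map_one, su_one_mulVec, a.2]
      map_mul' := fun g g' => by
        conv_lhs => rw [map_mul, suMat_mulVec_mul, hline g', Matrix.mulVec_smul, C.form_smul_left]
        rw [mul_comm] }
  have hχ : ∀ g, χ g = 1 := fun g => by
    have hk : commutator ↥(Cfsg.SU 2 F q) ≤ χ.toHomUnits.ker := Abelianization.commutator_subset_ker _
    rw [su_two_perfect (C := C) hF hq] at hk
    exact congrArg Units.val (MonoidHom.mem_ker.1 (hk (Subgroup.mem_top g)))
  refine ⟨a, ?_⟩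
  rintro _ ⟨g, rfl⟩
  refine mem_stab.2 ((hline g).trans ?_)
  rw [show C.form ((f g).1.1 *ᵥ a.1) a.1 = 1 from hχ g, one_smul]

/-- the point of an involution in characteristic two -/
theorem invol_point (h2 : (2 : F) = 0) {x : ↥(Cfsg.SU 3 F q)} (hx : x * x = 1) (h1 : x ≠ 1) :
    ∃ v : Fin 3 → F, v ≠ 0 ∧ C.form v v = 0 ∧ (∀ u, ∃ c : F, x.1.1 *ᵥ u = u + c • v) ∧
      ∀ u, C.form u v = 0 → x.1.1 *ᵥ u = u := by
  classical
  have hxx : ∀ u, x.1.1 *ᵥ (x.1.1 *ᵥ u) = u := fun u => by rw [← suMat_mulVec_mul, hx, su_one_mulVec]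
  have hadj : ∀ u w, C.form (x.1.1 *ᵥ u) w = C.form u (x.1.1 *ᵥ w) := fun u w => by
    conv_lhs => rw [← hxx w, C.form_su]
  have hiso : ∀ u w, C.form (x.1.1 *ᵥ u - u) (x.1.1 *ᵥ w - w) = 0 := fun u w => by
    simp only [C.form_sub_left, C.form_sub_right, C.form_su, hadj]
    linear_combination (C.form u w - C.form u (x.1.1 *ᵥ w)) * h2
  obtain ⟨u₀, hu₀⟩ : ∃ u, x.1.1 *ᵥ u ≠ u := by
    by_contra h
    push Not at h
    exact h1 (su_ext fun u => by rw [h, su_one_mulVec])
  set v := x.1.1 *ᵥ u₀ - u₀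
  have hv : v ≠ 0 := sub_ne_zero.2 hu₀
  refine ⟨v, hv, hiso _ _, fun u => ?_, fun u hu => ?_⟩
  · obtain ⟨c, hc⟩ := iso_parallel hv (hiso u₀ u₀) (hiso u u) (hiso u₀ u)
    exact ⟨c, by rw [← hc, add_sub_cancel]⟩
  · rw [← sub_eq_zero]
    refine C.eq_zero_of_form fun w => ?_
    obtain ⟨c, hc⟩ := iso_parallel hv (hiso u₀ u₀) (hiso w w) (hiso u₀ w)
    have e : x.1.1 *ᵥ w = w + c • v := by rw [← hc, add_sub_cancel]
    rw [C.form_sub_left, hadj, e, C.form_add_right, C.form_smul_right, hu, mul_zero, add_zero, sub_self]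

/-- commuting involutions share their point -/
theorem invol_common (h2 : (2 : F) = 0) {x y : ↥(Cfsg.SU 3 F q)} (hy : y * y = 1) (hxy : x * y = y * x)
    {v : Fin 3 → F} (hv : v ≠ 0) (hvv : C.form v v = 0) (hx : x * x = 1) (h1 : x ≠ 1)
    (hfx : ∀ u, ∃ c : F, x.1.1 *ᵥ u = u + c • v) {u : Fin 3 → F} (hu : C.form u v = 0) : y.1.1 *ᵥ u = u := by
  classical
  by_cases hy1 : y = 1
  · rw [hy1, su_one_mulVec]
  obtain ⟨w, hw, hww, hyw, hyw'⟩ := invol_point (C := C) h2 hy hy1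
  suffices hc : ∃ c : F, v = c • w by
    obtain ⟨c, rfl⟩ := hc
    have hc0 : c ≠ 0 := fun e => hv (by rw [e, zero_smul])
    rw [C.form_smul_right] at hu
    exact hyw' u ((mul_eq_zero.1 hu).resolve_left ((map_ne_zero C.bar).2 hc0))
  by_cases hprop : ∃ c : F, v = c • w
  · exact hprop
  have hyy : ∀ u, y.1.1 *ᵥ (y.1.1 *ᵥ u) = u := fun u => by rw [← suMat_mulVec_mul, hy, su_one_mulVec]
  have hxx : ∀ u, x.1.1 *ᵥ (x.1.1 *ᵥ u) = u := fun u => by rw [← suMat_mulVec_mul, hx, su_one_mulVec]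
  obtain ⟨u₁, hu₁⟩ : ∃ u, x.1.1 *ᵥ u ≠ u := by
    by_contra h
    push Not at h
    exact h1 (su_ext fun u => by rw [h, su_one_mulVec])
  obtain ⟨u₂, hu₂⟩ : ∃ u, y.1.1 *ᵥ u ≠ u := by
    by_contra h
    push Not at h
    exact hy1 (su_ext fun u => by rw [h, su_one_mulVec])
  have key : ∀ a b, C.form (x.1.1 *ᵥ a - a) (y.1.1 *ᵥ b - b) = 0 := fun a b => by
    have hadj : ∀ p r, C.form (x.1.1 *ᵥ p) r = C.form p (x.1.1 *ᵥ r) := fun p r => by
      conv_lhs => rw [← hxx r, C.form_su]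
    set p := y.1.1 *ᵥ b - b
    have e1 : C.form (x.1.1 *ᵥ a - a) p = C.form a (x.1.1 *ᵥ p - p) := by
      rw [C.form_sub_left, hadj, ← C.form_sub_right]
    obtain ⟨c, hc⟩ := hfx p
    have hxp : x.1.1 *ᵥ p - p = c • v := by rw [hc, add_sub_cancel_left]
    have hc2 : x.1.1 *ᵥ p - p = y.1.1 *ᵥ (x.1.1 *ᵥ b - b) - (x.1.1 *ᵥ b - b) := by
      simp only [p, Matrix.mulVec_sub, ← suMat_mulVec_mul, hxy]
      abel
    obtain ⟨d, hd⟩ := hyw (x.1.1 *ᵥ b - b)
    have hd' : x.1.1 *ᵥ p - p = d • w := by rw [hc2, hd, add_sub_cancel_left]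
    have : c = 0 := by
      by_contra hc0
      exact hprop ⟨c⁻¹ * d, by rw [← smul_smul, ← hd', hxp, inv_smul_smul₀ hc0]⟩
    rw [e1, hxp, this, zero_smul, C.form_zero_right]
  obtain ⟨c, hc⟩ := hfx u₁
  obtain ⟨d, hd⟩ := hyw u₂
  have hc0 : c ≠ 0 := fun e => hu₁ (by rw [hc, e, zero_smul, add_zero])
  have hd0 : d ≠ 0 := fun e => hu₂ (by rw [hd, e, zero_smul, add_zero])
  have h := key u₁ u₂
  rw [hc, hd, add_sub_cancel_left, add_sub_cancel_left, C.form_smul_left, C.form_smul_right] at h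
  have hvw : C.form v w = 0 := by simpa [hc0, hd0] using h
  obtain ⟨e, he⟩ := iso_parallel hw hww hvv (C.form_swap_zero hvw)
  exact ⟨e, he⟩

/-- even characteristic -/
theorem fix_even (hF : Fintype.card F = q ^ 2) (h2 : (2 : F) = 0)
    {f : ↥(Cfsg.SU 2 F q) →* ↥(Cfsg.SU 3 F q)} (hf : Function.Injective f) :
    ∃ a : USph C 3, f.range ≤ stabilizer _ a := by
  classical
  obtain ⟨e⟩ := Classical.SUTwoSL.main C hF (K := Descent.fixedField C.bar) (by
    rw [← Nat.card_eq_fintype_card]; exact card_fixed (C := C) hF)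
  let K := Descent.fixedField C.bar
  have h2K : (2 : K) = 0 := Subtype.ext h2
  let g := f.comp e.symm.toMonoidHom
  have hg : Function.Injective g := hf.comp e.symm.injective
  have hup : ∀ s t : K, g (PushUpTwo.up s) * g (PushUpTwo.up t) = g (PushUpTwo.up (s + t)) := fun s t => by
    rw [← map_mul]
    congr 1
    refine PushUpTwo.slExt ?_ ?_ ?_ ?_ <;> simp [Matrix.SpecialLinearGroup.coe_mul, PushUpTwo.up_val, Matrix.mul_apply, Fin.sum_univ_two, add_comm]
  have hinv : ∀ s : K, g (PushUpTwo.up s) * g (PushUpTwo.up s) = 1 := fun s => by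
    rw [hup, show s + s = 0 by linear_combination s * h2K,
      show PushUpTwo.up (0 : K) = 1 from PushUpTwo.slExt (by simp [PushUpTwo.up]) (by simp [PushUpTwo.up])
        (by simp [PushUpTwo.up]) (by simp [PushUpTwo.up]), map_one]
  have hne : g (PushUpTwo.up 1) ≠ 1 := fun h => by
    have := congrFun (congrFun (congrArg Subtype.val (hg (h.trans (map_one g).symm))) 0) 1
    simp [PushUpTwo.up] at this
  obtain ⟨v, hv, hvv, hfv, -⟩ := invol_point (C := C) h2 (hinv 1) hne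
  set l := g (PushUpTwo.lo 1)
  have hl : l * l = 1 := by
    rw [← map_mul, show PushUpTwo.lo (1 : K) * PushUpTwo.lo 1 = 1 from PushUpTwo.slExt (by simp [Matrix.SpecialLinearGroup.coe_mul, PushUpTwo.lo_val, Matrix.mul_apply, Fin.sum_univ_two])
      (by simp [Matrix.SpecialLinearGroup.coe_mul, PushUpTwo.lo_val, Matrix.mul_apply, Fin.sum_univ_two]) (by simp [Matrix.SpecialLinearGroup.coe_mul, PushUpTwo.lo_val, Matrix.mul_apply, Fin.sum_univ_two]; linear_combination h2K) (by simp [Matrix.SpecialLinearGroup.coe_mul, PushUpTwo.lo_val, Matrix.mul_apply, Fin.sum_univ_two]), map_one]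
  have hl1 : l ≠ 1 := fun h => by
    have := congrFun (congrFun (congrArg Subtype.val (hg (h.trans (map_one g).symm))) 1) 0
    simp [PushUpTwo.lo] at this
  obtain ⟨w, hw, hww, -, hlw⟩ := invol_point (C := C) h2 hl hl1
  obtain ⟨a, hav, haw⟩ : ∃ a : USph C 3, C.form a.1 v = 0 ∧ C.form a.1 w = 0 := by
    obtain ⟨x, hx, hxv, hxw⟩ := C.exists_orth_two le_rfl v w
    by_cases hxx : C.form x x = 0
    · obtain ⟨c, hc⟩ := iso_parallel hx hxx hvv hxv
      obtain ⟨d, hd⟩ := iso_parallel hx hxx hww hxw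
      obtain ⟨e, he, -, hex⟩ := exists_unit_perp (C := C) (Fin.elim0 : Fin 0 → Fin 3 → F) (fun i => i.elim0) ![x]
        (by omega)
      have hex : C.form e x = 0 := hex 0
      exact ⟨⟨e, he⟩, by rw [hc, C.form_smul_right, hex, mul_zero], by rw [hd, C.form_smul_right, hex, mul_zero]⟩
    · obtain ⟨c, -, hc⟩ := exists_normalise (C := C) hxx
      exact ⟨⟨c • x, hc⟩, by rw [C.form_smul_left, hxv, mul_zero], by rw [C.form_smul_left, hxw, mul_zero]⟩
  refine ⟨a, ?_⟩
  have htop : (stabilizer ↥(Cfsg.SU 3 F q) a).comap g = ⊤ := by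
    refine PushUpTwo.eq_top_of_upGroup_le (fun x hx => ?_) (x := PushUpTwo.lo 1) (mem_stab.2 (hlw _ haw))
      PushUpTwo.lo_not_normalizes
    rw [PushUpTwo.eq_up_of_mem hx]
    exact mem_stab.2 (invol_common h2 (hinv _) (by rw [hup, hup, add_comm]) hv hvv (hinv 1) hne hfv hav)
  rintro _ ⟨x, rfl⟩
  have := htop.ge (Subgroup.mem_top (e x))
  simpa [g] using this

/-- two rank one subgroups with commuting tori -/
theorem standard_pair (hF : Fintype.card F = q ^ 2) (hq : 3 < q) {f f' : ↥(Cfsg.SU 2 F q) →* ↥(Cfsg.SU 3 F q)}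
    (hf : Function.Injective f) (hf' : Function.Injective f') (hgen : f.range ⊔ f'.range = ⊤)
    {d d' : ↥(Cfsg.SU 3 F q)} (hd : d ∈ f.range) (hd' : d' ∈ f'.range) (ho : orderOf d = q + 1)
    (ho' : orderOf d' = q + 1) (hc : d * d' = d' * d) :
    ∃ B : ↥(Cfsg.SU 3 F q), (e0 C).range.map (MulAut.conj B).toMonoidHom = f.range ∧
      (e1 C).range.map (MulAut.conj B).toMonoidHom = f'.range := by
  classical
  have hfix : ∀ {f : ↥(Cfsg.SU 2 F q) →* ↥(Cfsg.SU 3 F q)}, Function.Injective f →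
      ∃ a : USph C 3, f.range = stabilizer _ a := fun hf => by
    by_cases h2 : (2 : F) = 0
    · obtain ⟨a, ha⟩ := fix_even (C := C) hF h2 hf
      exact ⟨a, range_eq_stab hf ha⟩
    · obtain ⟨a, ha⟩ := fix_odd (C := C) hF hq h2 hf
      exact ⟨a, range_eq_stab hf ha⟩
  obtain ⟨a, ha⟩ := hfix hf
  obtain ⟨b, hb⟩ := hfix hf'
  obtain ⟨p, hp⟩ := CharP.exists F
  haveI : Fact p.Prime := ⟨CharP.char_is_prime F p⟩
  have hpq : p ∣ q := by
    have h1 : (Fintype.card F : F) = 0 := FiniteField.cast_card_eq_zero F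
    rw [hF, Nat.cast_pow] at h1
    exact (CharP.cast_eq_zero_iff F p q).1 (pow_eq_zero_iff two_ne_zero |>.1 h1)
  have hpp : ∀ {x : ↥(Cfsg.SU 3 F q)}, orderOf x = q + 1 → x ^ p ≠ 1 := fun hx h => by
    have h1 := orderOf_dvd_of_pow_eq_one h
    rw [hx] at h1
    have := Nat.le_of_dvd (Fact.out : p.Prime).pos h1
    have := Nat.le_of_dvd (by omega) hpq
    omega
  have hda := mem_stab.1 (ha ▸ hd)
  have hd'b := mem_stab.1 (hb ▸ hd')
  have hab : C.form a.1 b.1 = 0 := by
    by_contra hne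
    set μ := C.form (d.1.1 *ᵥ b.1) b.1
    have hdb : d.1.1 *ᵥ b.1 = μ • b.1 :=
      fix_line hd'b (hpp ho') (by rw [← suMat_mulVec_mul, ← hc, suMat_mulVec_mul, hd'b])
    have h1 := C.form_su d a.1 b.1
    rw [hda, hdb, C.form_smul_right] at h1
    have hμ : μ = 1 := by
      have h3 : C.bar μ = 1 := mul_right_cancel₀ hne (by rw [h1, one_mul])
      rw [← C.bar_bar μ, h3, map_one]
    rw [hμ, one_smul] at hdb
    have hba := fix_line hda (hpp ho) hdb
    have hN : C.form b.1 a.1 * C.bar (C.form b.1 a.1) = 1 := by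
      have h2 := b.2
      conv_lhs at h2 => rw [hba]
      rw [C.form_smul_left, C.form_smul_right, a.2, mul_one] at h2
      exact h2
    have heq : f'.range ≤ stabilizer _ a := fun X hX => mem_stab.2 (by
      have h2 := mem_stab.1 (hb ▸ hX : X ∈ stabilizer _ b)
      rw [hba, Matrix.mulVec_smul] at h2
      exact (smul_right_injective (Fin 3 → F) (left_ne_zero_of_mul_eq_one hN)) h2)
    have htop : stabilizer ↥(Cfsg.SU 3 F q) a = ⊤ := top_le_iff.1 (hgen.ge.trans (sup_le ha.le heq))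
    obtain ⟨B, hB⟩ := exists_to_last a
    set W := B * e1 C (su2 C 0 1 (by simp)) * B⁻¹
    have hW := mem_stab.1 (htop.ge (Subgroup.mem_top W))
    rw [← hB, suMat_mulVec_mul, suMat_mulVec_mul, su_inv_mulVec] at hW
    have h2 := congrArg ((B⁻¹).1.1 *ᵥ ·) hW
    simp only [su_inv_mulVec] at h2
    rw [show (sv 2 : Fin 3 → F) = sv (win (n := 3) 2 1 (by norm_num) 1) from rfl, emb_sv, su2_col1] at h2
    have h3 := congrFun h2 1
    simp [Matrix.mulVec_neg, inc_mulVec_sv, sv, win, inc, Fin.ext_iff] at h3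
  obtain ⟨B, hB⟩ := exists_su_move_tuple (C := C) (t := ![sv 2, sv 0]) (t' := ![a.1, b.1])
    (li_coord C (on_two (by rw [form_sv, if_pos rfl]) (by rw [form_sv, if_pos rfl]) (by rw [form_sv, if_neg (by decide)])))
    (li_coord C (on_two a.2 b.2 hab))
    (fun i j => by fin_cases i <;> fin_cases j <;> simp [form_sv, a.2, b.2, hab, C.form_swap_zero hab])
    (w := sv 1) (by rw [form_sv, if_pos rfl]) (fun i => by fin_cases i <;> simp [form_sv])
  have hB2 : B.1.1 *ᵥ sv 2 = a.1 := hB 0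
  have hB0 : B.1.1 *ᵥ sv 0 = b.1 := hB 1
  refine ⟨B, by rw [ha, stab_eq a hB2], ?_⟩
  rw [hb]
  ext X
  rw [mem_stab, Subgroup.mem_map]
  constructor
  · rintro ⟨Y, hY, rfl⟩
    show (B * Y * B⁻¹).1.1 *ᵥ b.1 = b.1
    rw [← hB0, suMat_mulVec_mul, suMat_mulVec_mul, su_inv_mulVec, mem_e1.1 hY]
  · intro h
    exact ⟨B⁻¹ * X * B, mem_e1.2 (by rw [suMat_mulVec_mul, suMat_mulVec_mul, hB0, h, ← hB0, su_inv_mulVec]),
      by simp [MulAut.conj_apply]; group⟩

/-- Phan's theorem -/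
theorem phan {G : Type*} [Group G] (hF : Fintype.card F = q ^ 2) (hq : 3 < q) {n : ℕ} (hn : 2 ≤ n)
    (U : Fin n → Subgroup G) (e : ∀ i, ↥(Cfsg.SU 2 F q) ≃* ↥(U i)) (hgen : ⨆ i, U i = ⊤)
    (D : Fin n → Subgroup G) (hD : ∀ i, D i ≤ U i ∧ IsCyclic ↥(D i) ∧ Nat.card ↥(D i) = q + 1)
    (h1 : ∀ i j : Fin n, (i : ℕ) + 2 ≤ j → ∀ x ∈ U i, ∀ y ∈ U j, x * y = y * x)
    (h2 : ∀ i j : Fin n, (i : ℕ) + 1 = j → Nonempty (↥(U i ⊔ U j) ≃* ↥(Cfsg.SU 3 F q)))
    (h3 : ∀ i j : Fin n, i ≠ j → ∀ x ∈ D i, ∀ y ∈ D j, x * y = y * x) :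
    ∃ f : ↥(Cfsg.SU (n + 1) F q) →* G, Function.Surjective f := by
  classical
  obtain ⟨C⟩ := CfsgLib.Classical.uctx_exists hF
  rcases Nat.lt_or_ge n 3 with h | hn3
  · obtain rfl : n = 2 := by omega
    obtain ⟨ψ⟩ := h2 0 1 rfl
    have htop : U 0 ⊔ U 1 = ⊤ := by
      rw [← hgen]
      exact le_antisymm (sup_le (le_iSup U 0) (le_iSup U 1))
        (iSup_le fun i => by fin_cases i; exacts [le_sup_left, le_sup_right])
    refine ⟨(U 0 ⊔ U 1).subtype.comp ψ.symm.toMonoidHom, fun g => ⟨ψ ⟨g, htop.ge (Subgroup.mem_top g)⟩, ?_⟩⟩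
    simp
  refine image_of_pieces (C := C) hF hq hn3 U h1 (fun i j hij => ?_) hgen
  obtain ⟨ψ⟩ := h2 i j hij
  set W := U i ⊔ U j
  let g : ∀ k, U k ≤ W → (↥(Cfsg.SU 2 F q) →* ↥(Cfsg.SU 3 F q)) := fun k hk =>
    ψ.toMonoidHom.comp ((Subgroup.inclusion hk).comp (e k).toMonoidHom)
  have hgi : ∀ k hk, Function.Injective (g k hk) := fun k hk =>
    ψ.injective.comp ((Subgroup.inclusion_injective hk).comp (e k).injective)
  have hgr : ∀ k hk, (g k hk).range = ((U k).subgroupOf W).map ψ.toMonoidHom := fun k hk => by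
    rw [MonoidHom.range_comp, MonoidHom.range_comp, MonoidHom.range_eq_top.2 (e k).surjective,
      ← MonoidHom.range_eq_map, Subgroup.inclusion_range]
  obtain ⟨xi, hxi⟩ := (hD i).2.1.exists_ofOrder_eq_natCard
  obtain ⟨xj, hxj⟩ := (hD j).2.1.exists_ofOrder_eq_natCard
  have hi : U i ≤ W := le_sup_left
  have hj : U j ≤ W := le_sup_right
  let di : ↥W := ⟨xi.1, hi ((hD i).1 xi.2)⟩
  let dj : ↥W := ⟨xj.1, hj ((hD j).1 xj.2)⟩
  obtain ⟨B, hB0, hB1⟩ := standard_pair (C := C) hF hq (hgi i hi) (hgi j hj)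
    (by rw [hgr, hgr, ← Subgroup.map_sup, ← Subgroup.subgroupOf_sup hi hj, Subgroup.subgroupOf_self,
      Subgroup.map_top_of_surjective _ ψ.surjective])
    (d := ψ di) (d' := ψ dj) (hgr i hi ▸ Subgroup.mem_map_of_mem ψ.toMonoidHom ((hD i).1 xi.2 : di ∈ (U i).subgroupOf W))
    (hgr j hj ▸ Subgroup.mem_map_of_mem ψ.toMonoidHom ((hD j).1 xj.2 : dj ∈ (U j).subgroupOf W))
    (by rw [MulEquiv.orderOf_eq, ← Subgroup.orderOf_coe, show (di : G) = xi.1 from rfl, Subgroup.orderOf_coe, hxi,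
      (hD i).2.2])
    (by rw [MulEquiv.orderOf_eq, ← Subgroup.orderOf_coe, show (dj : G) = xj.1 from rfl, Subgroup.orderOf_coe, hxj,
      (hD j).2.2])
    (by rw [← map_mul, ← map_mul]; congr 1
        exact Subtype.ext (h3 i j (by rintro rfl; omega) _ xi.2 _ xj.2))
  refine ⟨W.subtype.comp (ψ.symm.toMonoidHom.comp (MulAut.conj B).toMonoidHom), ?_, ?_, ?_⟩
  · intro x hx
    have h0 : ψ.symm (MulAut.conj B x) = 1 := Subtype.ext (by simpa using hx)
    have : x = 1 := (MulAut.conj B).injective (by rw [map_one]; exact ψ.symm.injective (by rw [h0, map_one]))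
    exact this ▸ one_mem _
  all_goals rw [← Subgroup.map_map, ← Subgroup.map_map]
  · rw [hB0, hgr, Subgroup.map_map (g := ψ.symm.toMonoidHom), show ψ.symm.toMonoidHom.comp ψ.toMonoidHom = MonoidHom.id _ from
      MonoidHom.ext fun x => ψ.symm_apply_apply x, Subgroup.map_id, Subgroup.map_subgroupOf_eq_of_le hi]
  · rw [hB1, hgr, Subgroup.map_map (g := ψ.symm.toMonoidHom), show ψ.symm.toMonoidHom.comp ψ.toMonoidHom = MonoidHom.id _ from
      MonoidHom.ext fun x => ψ.symm_apply_apply x, Subgroup.map_id, Subgroup.map_subgroupOf_eq_of_le hj]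

end CfsgLib.Phan
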