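import Cfsg.Agent.Lib.Phan.Main

/-!
# Weak Phan systems
-/

set_option autoImplicit false
set_option linter.all false

namespace CfsgLib.Phan

open CfsgLib.SU

universe u

variable {F : Type u} [Field F] [Fintype F] {q : ℕ} {G : Type*} [Group G]

/-- a standard pair is a piece -/
theorem exists_piece (C : UCtx F q) {V A B : Subgroup G} (h : Cfsg.IsStandardUnitaryPair V A B F q) :
    ∃ φ : ↥(Cfsg.SU 3 F q) →* G, Piece C φ A B ∧ φ.range = V := by
  rcases h with ⟨ψ, hA, hB⟩ | ⟨ψ, hA, hB⟩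
  · refine ⟨_, ⟨fun x hx => ?_, suBlock_01 (C := C) ▸ hA, suBlock_12 (C := C) ▸ hB⟩, ?_⟩
    · have : x = 1 := by simpa using hx
      exact this ▸ one_mem _
    · rw [MonoidHom.range_comp, MonoidHom.range_eq_top.2 ψ.surjective, ← MonoidHom.range_eq_map,
        Subgroup.range_subtype]
  · refine ⟨_, ⟨fun x hx => ?_, suBlock_01 (C := C) ▸ hA, suBlock_12 (C := C) ▸ hB⟩, ?_⟩
    · have : (QuotientGroup.mk' (Subgroup.center ↥(Cfsg.SU 3 F q))) x = 1 := by simpa using hx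
      exact (QuotientGroup.eq_one_iff x).1 this
    · rw [MonoidHom.range_comp, MonoidHom.range_comp,
        MonoidHom.range_eq_top.2 (QuotientGroup.mk'_surjective _), ← MonoidHom.range_eq_map,
        MonoidHom.range_eq_top.2 ψ.surjective, ← MonoidHom.range_eq_map, Subgroup.range_subtype]

/-- groups with pieces are images of unitary groups -/
theorem image_of_pieces (hF : Fintype.card F = q ^ 2) (hq : 3 < q) {C : UCtx F q} {n : ℕ} (hn : 3 ≤ n)
    (U : Fin n → Subgroup G)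
    (hc : ∀ i j : Fin n, (i : ℕ) + 2 ≤ j → ∀ x ∈ U i, ∀ y ∈ U j, x * y = y * x)
    (hP : ∀ i j : Fin n, (i : ℕ) + 1 = j → ∃ φ : ↥(Cfsg.SU 3 F q) →* G, Piece C φ (U i) (U j))
    (hgen : ⨆ i, U i = ⊤) : ∃ f : ↥(Cfsg.SU (n + 1) F q) →* G, Function.Surjective f := by
  classical
  have hr := SphereGraph.room (C := C) hF (by omega)
  let U' : ℕ → Subgroup G := fun j => if h : j < n then U ⟨j, h⟩ else ⊥
  have hP' : ∀ i : ℕ, ∃ φ : ↥(Cfsg.SU 3 F q) →* G, i + 3 ≤ n + 1 → Piece C φ (U' i) (U' (i + 1)) := fun i => by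
    by_cases h : i + 3 ≤ n + 1
    · obtain ⟨φ, hφ⟩ := hP ⟨i, by omega⟩ ⟨i + 1, by omega⟩ rfl
      exact ⟨φ, fun _ => by simpa [U', show i < n by omega, show i + 1 < n by omega] using hφ⟩
    · exact ⟨1, fun h' => absurd h' h⟩
  choose φ hφ using hP'
  obtain ⟨S, hS⟩ := exists_sys (C := C) hF hq (N := n + 1) (by omega) U' φ hφ fun i j hij hj => by
    simp only [U', dif_pos (show i < n by omega), dif_pos (show j < n by omega)]
    exact hc _ _ hij
  refine S.surjects hr (by omega) (eq_top_iff.2 (hgen.ge.trans (iSup_le fun i => ?_)))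
  refine le_iSup_of_le (i : ℕ) (le_iSup_of_le (by omega) (le_of_eq ?_))
  rw [hS i.val (by omega)]
  simp [U']

/-- weak Phan systems -/
theorem weak_phan (hF : Fintype.card F = q ^ 2) (hq : 3 < q) {n : ℕ} (hn : 3 ≤ n)
    (U : Fin n → Subgroup G) (V : Fin n → Fin n → Subgroup G)
    (h1 : ∀ i j : Fin n, (i : ℕ) + 2 ≤ j → ∀ x ∈ U i, ∀ y ∈ U j, x * y = y * x)
    (h2 : ∀ i j : Fin n, (i : ℕ) + 1 = j → Cfsg.IsStandardUnitaryPair (V i j) (U i) (U j) F q)
    (hgen : (⨆ i, U i) ⊔ (⨆ (i : Fin n) (j : Fin n) (_ : (i : ℕ) + 1 = j), V i j) = ⊤) :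
    ∃ f : ↥(Cfsg.SU (n + 1) F q) →* G, Function.Surjective f := by
  obtain ⟨C⟩ := CfsgLib.Classical.uctx_exists hF
  have hq3 : ∃ s : F, C.bar s = s ∧ s ≠ 0 ∧ s ≠ 1 := by
    obtain ⟨s, a, b, c, -⟩ := SphereGraph.room (C := C) hF (by omega) 1 1
    exact ⟨s, a, b, c⟩
  refine image_of_pieces (C := C) hF hq hn U h1 (fun i j h => ⟨_, (exists_piece C (h2 i j h)).choose_spec.1⟩)
    (eq_top_iff.2 (hgen ▸ sup_le le_rfl (iSup_le fun i => iSup_le fun j => iSup_le fun h => ?_)))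
  obtain ⟨φ, P, hr⟩ := exists_piece C (h2 i j h)
  rw [← hr, MonoidHom.range_eq_map, ← closure_blocks (C := C) hq3, Subgroup.map_sup, P.left, P.right]
  exact sup_le (le_iSup U i) (le_iSup U j)

end CfsgLib.Phan
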